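import Cfsg.Agent.Lib.Schur.PermMult
import Cfsg.Agent.Lib.Co3Model.Model

/-!
The certified permutation model of the third Conway group and two of its involutions.
-/

set_option autoImplicit false

namespace Cfsg.Agent.Lib.Co3End61

open Cfsg Cfsg.Agent.Lib.Co3Model
open Cfsg.Agent.Lib.Computation (permRep)
open Cfsg.Agent.Lib.Schur.PermMult (memC Has el el_has)

theorem hw276 : 276 ≤ 2 ^ 9 := by norm_num

/-- The permutation model. -/
abbrev M : Type := ↥((permRep 276 9 hw276).grp co3_chain)

theorem hch : (permRep 276 9 hw276).checkChain co3_chain = true :=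
  (permRep 276 9 hw276).checkChain_of_checkClosure co3_check

/-- The code of an involution with 36 fixed points. -/
def tCode : ℕ := 0x300bd371022b6db45c1a8c4a4c4053643cf368004c2eb263203afc78861d06e5bbd8ba67822c5f68b5f3b97e14800c1c8f973a9d42e9719b010dd67349c038874360ca05d8b1aa78003791f0364b7d3c27318319efe1b044bf086180d82c076bbd7a3e6b83d501a7bad92e4d599bde421058c8887c3f8b850b973298761712259cad82d334fa708888ca2625aa892a534981cf45068a391a1b780151204438810a4736a09021c559a93aac38a4484d41c9ccea153b1c8f69c593e106e2329f8d23f7a198d65665a62031362979eb0c2da7c92582b990520d4a4253290048a968ff1e8b4b21f4210e1ead231e42440342f0963452864eedc1bb1e163c19aba14ea892a894d612938aaa96605856a34d019608624415fa80462e074fa52098e8ec011058c105d038a8ca57c1c9ee14908914886104e04d3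

/-- The code of an involution with 12 fixed points, commuting with the first one. -/
def uCode : ℕ := 0x109936f645120a64e04b1538f92529444f35680518fb138653a758010e1017694415065820f5d6f05e39d8eaf78955a2c4773353e8f60a44fca323adc48dc0fa50763f651cd0a7931bddd2445a211cc4c0035c9a3a7695214e846a19c6401b0f81cef06268bab06f1c952cf40ac896b87607206882b1656af54f24e0c6e701ecb46872a9dfb0988ae8da62141c4d2da530d1c490720cd870145c3d12ac43b09aace28a096632323843a04511b1a842158b1f8126b2d92c5237a91327a338212aa035841e87f69a60361318961722a1ba85545e2baadd4c6869c106501ac3192cc58c1c5d0e6f8600ad07d1e02ac06c2f9e4076cb204a382dafc9e9247200be290b12414763b97060977fc4872dd07c1434036d818faae30885fc467c0bc820b301d01a6611af422bb0a0b6166a1e0788a7c1044e04cb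

/-- The code of a third involution, commuting with the others. -/
def aCode : ℕ := 0x4e82e0495369d844613d070e0e400294a6627fc44b8d4818a404fc3c9b91e18631a508e14c2f084381eaf442163c0e988d1072e947086013de89f5c834b48b39818763f6b87d030005151d04c1caa1344425328ee550d3dd5ce94680c80e35812ddcf25db99be3608a980e2542a407cbf17b144eac3d92478ce07ada0c437295848687008e265200b3514f349192201e3925c6ab27ca39862a6e2650e884488166f52295daa3138994c07c55c2df6eb64c38ea156da4cff09283ea1e09351adeca0040dcfc9616c12187d191608f01083745c5e4128990d282a700a6f7106c56d05f32d542c2e85d06cc523c424c16c2c5dea96cba99ef0332e122281997d001957964c64826a31fc345685168a14f435da866b250270a2731c60f8233b0e8260e9056e5b53b9dbc0c8934cd8675ab68a204613f53707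

theorem tCode_mem : memC hw276 co3_chain tCode = true := by decide +kernel

theorem uCode_mem : memC hw276 co3_chain uCode = true := by decide +kernel

theorem aCode_mem : memC hw276 co3_chain aCode = true := by decide +kernel

/-- An involution of the first class. -/
noncomputable def τA : M := el hch tCode_mem

/-- An involution of the second class. -/
noncomputable def τB : M := el hch uCode_mem

/-- The model is the third Conway group. -/
noncomputable def co3Iso : ↥Spor.Co3 ≃* M := co3Equiv.trans stEquiv

end Cfsg.Agent.Lib.Co3End61
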