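import Cfsg.Agent.Lib.Co3End61.Cent

/-!
The certified subgroup of order 2903040 centralising the first involution.
-/

set_option autoImplicit false
set_option maxRecDepth 8000

namespace Cfsg.Agent.Lib.Co3End61

open Cfsg Cfsg.Agent.Lib.Co3Model
open Cfsg.Agent.Lib.Computation
open Cfsg.Agent.Lib.Schur.PermMult

/-- The certified centraliser. -/
noncomputable def CT : Subgroup M :=
  ((permRep 276 9 hw276).grp centChain).subgroupOf ((permRep 276 9 hw276).grp co3_chain)

theorem mem_CT {g : M} : g ∈ CT ↔ (g : Equiv.Perm (Fin 276)) ∈ (permRep 276 9 hw276).grp centChain :=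
  Iff.rfl

theorem centChain_le :
    (permRep 276 9 hw276).grp centChain ≤ (permRep 276 9 hw276).grp co3_chain := by
  rw [Rep.grp, Subgroup.closure_le]
  rintro _ ⟨s, hs, rfl⟩
  have h := List.all_eq_true.1 centGens_ok s hs
  rw [Bool.and_eq_true] at h
  exact (el hch h.1).2

theorem card_CT : Nat.card CT = 2903040 := by
  rw [CT, Nat.card_congr (Subgroup.subgroupOfEquivOfLe centChain_le).toEquiv,
    (permRep 276 9 hw276).card_grp centChain_ok, centOrder]

theorem CT_comm {g : M} (hg : g ∈ CT) : g * τA = τA * g := by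
  have hle : (permRep 276 9 hw276).grp centChain ≤
      Subgroup.centralizer ({decodeP 276 9 tCode} : Set (Equiv.Perm (Fin 276))) := by
    rw [Rep.grp, Subgroup.closure_le]
    rintro _ ⟨s, hs, rfl⟩
    have h := List.all_eq_true.1 centGens_ok s hs
    rw [Bool.and_eq_true] at h
    rw [SetLike.mem_coe, Subgroup.mem_centralizer_singleton_iff]
    exact congrArg Subtype.val (((el_has hch h.1).mul (el_has hch tCode_mem)).eq
      ((el_has hch tCode_mem).mul (el_has hch h.1)) h.2)
  exact Subtype.ext (Subgroup.mem_centralizer_singleton_iff.1 (hle hg))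

theorem cd_mem_CT : ((List.range 10).all fun k =>
    (permRep 276 9 hw276).sift centChain (cd (Nat.pow 2 k))) = true := by decide +kernel

theorem E_pow_mem_CT {k : ℕ} (hk : k < 10) : E (2 ^ k) ∈ CT := by
  rw [mem_CT, (E_has (Nat.pow_lt_pow_right (by norm_num) hk)).2]
  exact (permRep 276 9 hw276).mem_grp_of_sift centChain_ok
    (E_has (Nat.pow_lt_pow_right (by norm_num) hk)).1 (List.all_eq_true.1 cd_mem_CT k (List.mem_range.2 hk))

/-- The Sylow subgroup lies in the certified centraliser. -/
theorem S2_le_CT : S2 ≤ CT := by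
  intro g hg
  obtain ⟨i, hi, rfl⟩ := mem_S2.1 hg
  have key : ∀ k ≤ 10, E (i % 2 ^ k) ∈ CT := by
    intro k
    induction k with
    | zero => intro _; rw [pow_zero, Nat.mod_one, E_zero]; exact one_mem _
    | succ k ih =>
      intro hk
      have hk' : k < 10 := by omega
      have hm : i % 2 ^ k < 2 ^ k := Nat.mod_lt _ (Nat.two_pow_pos k)
      have hm' : i % 2 ^ k < 1024 := hm.trans_le (Nat.pow_le_pow_right (by norm_num) hk'.le)
      rw [pow_succ, Nat.mod_mul]
      rcases Nat.mod_two_eq_zero_or_one (i / 2 ^ k) with h | h <;> rw [h]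
      · rw [mul_zero, add_zero]; exact ih hk'.le
      · rw [mul_one, add_comm, ← (tb_facts hk' hm').2 hm, E_tb hk' hm']
        exact mul_mem (E_pow_mem_CT hk') (ih hk'.le)
  have h := key 10 le_rfl
  rwa [Nat.mod_eq_of_lt (show i < 2 ^ 10 by omega)] at h

theorem τA_mem_CT : τA ∈ CT := E_one ▸ S2_le_CT (E_mem (by norm_num))

theorem τB_mem_CT : τB ∈ CT := E_u ▸ S2_le_CT (E_mem (by norm_num))

end Cfsg.Agent.Lib.Co3End61
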