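import Cfsg.Agent.Lib.Co3End61.Fusion
import Cfsg.Agent.Lib.Co3End61.CentData
import Mathlib.GroupTheory.SpecificGroups.Dihedral

/-!
The centraliser of the first involution, and inside it that of the other two.
-/

set_option autoImplicit false
set_option maxRecDepth 8000

namespace Cfsg.Agent.Lib.Co3End61

open Cfsg Cfsg.Agent.Lib.Co3Model
open Cfsg.Agent.Lib.Computation
open Cfsg.Agent.Lib.Schur.PermMult

theorem centChain_ok : (permRep 276 9 hw276).checkChain centChain = true := by decide +kernel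

theorem centGens_ok : ((permRep 276 9 hw276).topGens centChain).all (fun s =>
    memC hw276 co3_chain s && Nat.beq (mulP 276 9 s tCode) (mulP 276 9 tCode s)) = true := by
  decide +kernel

theorem centOrder : (permRep 276 9 hw276).order centChain = 2903040 := by decide +kernel

theorem mem_centChain (hcard : Nat.card ↥(Subgroup.centralizer ({τA} : Set M)) = 2903040) {g : M}
    (hg : g * τA = τA * g) :
    (g : Equiv.Perm (Fin 276)) ∈ (permRep 276 9 hw276).grp centChain := by
  haveI : Finite M := finiteM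
  have hle : (permRep 276 9 hw276).grp centChain ≤
      (Subgroup.centralizer ({τA} : Set M)).map ((permRep 276 9 hw276).grp co3_chain).subtype := by
    rw [Rep.grp, Subgroup.closure_le]
    rintro _ ⟨s, hs, rfl⟩
    have h := List.all_eq_true.1 centGens_ok s hs
    rw [Bool.and_eq_true] at h
    exact ⟨el hch h.1, Subgroup.mem_centralizer_singleton_iff.2
      (((el_has hch h.1).mul (el_has hch tCode_mem)).eq ((el_has hch tCode_mem).mul (el_has hch h.1)) h.2),
      rfl⟩
  have heq := Subgroup.eq_of_le_of_card_ge hle (by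
    rw [Subgroup.card_map_of_injective ((permRep 276 9 hw276).grp co3_chain).subtype_injective,
      hcard, (permRep 276 9 hw276).card_grp centChain_ok, centOrder])
  rw [heq]
  exact ⟨g, Subgroup.mem_centralizer_singleton_iff.2 hg, rfl⟩

/-- The normal forms centralising the three involutions. -/
def rIdx : List ℕ := [0, 1, 2, 3, 20, 21, 22, 23, 192, 193, 194, 195, 212, 213, 214, 215, 320, 321,
  322, 323, 340, 341, 342, 343, 396, 397, 398, 399, 408, 409, 410, 411]

/-- An image forces the element not to commute. -/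
def bad (c : ℕ) (fx : List ℕ) (w x : ℕ) : Bool :=
  fx.any (fun y => Nat.beq (getW 9 c x) y) &&
    !Nat.beq (getW 9 w (getW 9 c x)) (getW 9 c (getW 9 w x))

/-- The search for the elements commuting with the two codes. -/
def bt : List (Computation.Level ℕ) → List ℕ → ℕ → Bool
  | [], _, w => !(Nat.beq (mulP 276 9 w uCode) (mulP 276 9 uCode w) &&
      Nat.beq (mulP 276 9 w aCode) (mulP 276 9 aCode w)) || rIdx.any fun i => Nat.beq w (cd i)
  | L :: rest, fx, w => L.orb.toList.all fun e => forceNat (mulP 276 9 w e.fwd) fun w' =>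
      (L.base :: fx).any (fun x => bad uCode (L.base :: fx) w' x || bad aCode (L.base :: fx) w' x) ||
        bt rest (L.base :: fx) w'

theorem bt_ok : bt centChain [] (pone 276 9) = true := by decide +kernel

theorem mulP_congr {a b c d : ℕ} (ha : okPerm 276 9 a = true) (hb : okPerm 276 9 b = true)
    (hc : okPerm 276 9 c = true) (hd : okPerm 276 9 d = true)
    (h : decodeP 276 9 a * decodeP 276 9 b = decodeP 276 9 c * decodeP 276 9 d) :
    mulP 276 9 a b = mulP 276 9 c d := by
  simp only [mulP, forceNat_eq]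
  refine packW_congr fun x hx => ?_
  have h' := congrArg (fun σ : Equiv.Perm (Fin 276) => ((σ ⟨x, hx⟩ : Fin 276) : ℕ)) h
  simpa only [Equiv.Perm.mul_apply, decodeP_apply ha, decodeP_apply hb, decodeP_apply hc,
    decodeP_apply hd] using h'

theorem not_bad {c w x : ℕ} {fx : List ℕ} (hc : okPerm 276 9 c = true) (hw : okPerm 276 9 w = true)
    {k : Equiv.Perm (Fin 276)} (hx : x ∈ fx)
    (hfx : ∀ y ∈ fx, ∃ h : y < 276, k ⟨y, h⟩ = ⟨y, h⟩)
    (hcomm : decodeP 276 9 w * k * decodeP 276 9 c = decodeP 276 9 c * (decodeP 276 9 w * k)) :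
    bad c fx w x = false := by
  rw [bad, Bool.and_eq_false_iff]
  by_cases hy : fx.any (fun y => Nat.beq (getW 9 c x) y) = true
  · obtain ⟨y, hy, he⟩ := List.any_eq_true.1 hy
    obtain rfl := Nat.eq_of_beq_eq_true he
    obtain ⟨h1, hk1⟩ := hfx x hx
    obtain ⟨h2, hk2⟩ := hfx _ hy
    have e := congrArg (fun σ : Equiv.Perm (Fin 276) => σ ⟨x, h1⟩) hcomm
    simp only [Equiv.Perm.mul_apply] at e
    have ecx : decodeP 276 9 c ⟨x, h1⟩ = ⟨getW 9 c x, h2⟩ := Fin.ext (decodeP_apply hc _)
    rw [ecx, hk2, hk1] at e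
    have e' := congrArg Fin.val e
    rw [decodeP_apply hw, decodeP_apply hc, decodeP_apply hw] at e'
    right
    rw [e', Nat.beq_refl]
    rfl
  · left
    exact Bool.eq_false_iff.2 hy

theorem okPerm_u : okPerm 276 9 uCode = true := (Bool.and_eq_true_iff.1 uCode_mem).1

theorem okPerm_a : okPerm 276 9 aCode = true := (Bool.and_eq_true_iff.1 aCode_mem).1

theorem bt_spec : ∀ (c : List (Computation.Level ℕ)) (fx : List ℕ) (w : ℕ) (k : Equiv.Perm (Fin 276)),
    (permRep 276 9 hw276).checkChain c = true → okPerm 276 9 w = true →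
    (∀ g ∈ (permRep 276 9 hw276).grp c, ∀ y ∈ fx, ∃ h : y < 276, g ⟨y, h⟩ = ⟨y, h⟩) →
    k ∈ (permRep 276 9 hw276).grp c → bt c fx w = true →
    decodeP 276 9 w * k * decodeP 276 9 uCode = decodeP 276 9 uCode * (decodeP 276 9 w * k) →
    decodeP 276 9 w * k * decodeP 276 9 aCode = decodeP 276 9 aCode * (decodeP 276 9 w * k) →
    ∃ i ∈ rIdx, decodeP 276 9 w * k = decodeP 276 9 (cd i) := by
  intro c
  induction c with
  | nil =>
    intro fx w k _ hw _ hk hb hu ha
    rw [Rep.grp_nil, Subgroup.mem_bot] at hk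
    subst hk
    rw [mul_one] at hu ha ⊢
    rw [bt, Bool.or_eq_true, Bool.not_eq_true'] at hb
    rcases hb with hb | hb
    · rw [mulP_congr hw okPerm_u okPerm_u hw hu, mulP_congr hw okPerm_a okPerm_a hw ha, Nat.beq_refl,
        Nat.beq_refl] at hb
      exact absurd hb (by simp)
    · obtain ⟨i, hi, he⟩ := List.any_eq_true.1 hb
      exact ⟨i, hi, by rw [Nat.eq_of_beq_eq_true he]⟩
  | cons L rest ih =>
    intro fx w k hc hw hfx hk hb hu ha
    obtain ⟨e, he, k', hk', rfl⟩ := (permRep 276 9 hw276).decomp hc hk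
    have F := (permRep 276 9 hw276).levelFacts hc
    have hfwd : okPerm 276 9 e.fwd = true := F.fwd_ok e he
    have hw' : okPerm 276 9 (mulP 276 9 w e.fwd) = true := okPerm_mulP hw hfwd
    have hdec : decodeP 276 9 (mulP 276 9 w e.fwd) = decodeP 276 9 w * decodeP 276 9 e.fwd :=
      decodeP_mulP hw hfwd
    have hb' := List.all_eq_true.1 hb e he
    rw [forceNat_eq] at hb'
    have hfx' : ∀ g ∈ (permRep 276 9 hw276).grp rest, ∀ y ∈ L.base :: fx,
        ∃ h : y < 276, g ⟨y, h⟩ = ⟨y, h⟩ := by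
      intro g hg y hy
      rcases List.mem_cons.1 hy with rfl | hy
      · have hlt : L.base < 276 := by
          have hp := F.ptOk_base
          simp only [Nat.blt_eq] at hp
          exact hp
        refine ⟨hlt, ?_⟩
        have e1 : Fin.ofNat 276 L.base = ⟨L.base, hlt⟩ := Fin.ext (Nat.mod_eq_of_lt hlt)
        have e2 := (permRep 276 9 hw276).fix_base hc hg
        rwa [Equiv.Perm.smul_def, show (permRep 276 9 hw276).pt L.base = ⟨L.base, hlt⟩ from e1] at e2
      · exact hfx g ((permRep 276 9 hw276).grp_tail_le hc hg) y hy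
    have e3 : decodeP 276 9 w * ((permRep 276 9 hw276).val e.fwd * k') =
        decodeP 276 9 (mulP 276 9 w e.fwd) * k' := by
      rw [hdec, mul_assoc]
    rw [e3] at hu ha ⊢
    rw [Bool.or_eq_true] at hb'
    rcases hb' with hb' | hb'
    · obtain ⟨x, hx, hbx⟩ := List.any_eq_true.1 hb'
      rw [not_bad okPerm_u hw' hx (hfx' k' hk') hu, not_bad okPerm_a hw' hx (hfx' k' hk') ha] at hbx
      exact absurd hbx (by simp)
    · exact ih _ _ _ ((permRep 276 9 hw276).checkChain_tail hc) hw' hfx' hk' hb' hu ha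

/-- The centraliser of the three involutions lies in the Sylow subgroup. -/
theorem cent_tua (hcard : Nat.card ↥(Subgroup.centralizer ({τA} : Set M)) = 2903040) {g : M}
    (ht : g * τA = τA * g) (hu : g * τB = τB * g) (ha : g * αA = αA * g) :
    ∃ i ∈ rIdx, g = E i := by
  have hone : decodeP 276 9 (pone 276 9) = 1 := (permRep 276 9 hw276).val_one
  have hu' : (g : Equiv.Perm (Fin 276)) * decodeP 276 9 uCode = decodeP 276 9 uCode * g :=
    congrArg (Subtype.val : M → Equiv.Perm (Fin 276)) hu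
  have ha' : (g : Equiv.Perm (Fin 276)) * decodeP 276 9 aCode = decodeP 276 9 aCode * g :=
    congrArg (Subtype.val : M → Equiv.Perm (Fin 276)) ha
  obtain ⟨i, hi, he⟩ := bt_spec centChain [] (pone 276 9) g centChain_ok (permRep 276 9 hw276).ok_one
    (fun _ _ y hy => absurd hy (by simp)) (mem_centChain hcard ht) bt_ok
    (by rw [hone, one_mul]; exact hu') (by rw [hone, one_mul]; exact ha')
  rw [hone, one_mul] at he
  refine ⟨i, hi, Subtype.ext ?_⟩
  have hlt : i < 1024 := by
    have := List.all_eq_true.1 (show (rIdx.all fun i => Nat.blt i 1024) = true by decide +kernel) i hi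
    simpa using this
  rw [(E_has hlt).2]; exact he

/-- Representatives of the quotient by the four-group. -/
def sec : DihedralGroup 4 → ℕ
  | .r i => [0, 322, 1, 323].getD i.val 0
  | .sr i => [2, 321, 3, 320].getD i.val 0

/-- The normal forms of the four-group. -/
def vIdx : List ℕ := [0, 212, 193, 21]

theorem sec_mul : ∀ d e : DihedralGroup 4,
    vIdx.any (fun v => Nat.beq (mi (sec d) (sec e)) (mi v (sec (d * e)))) = true := by decide +kernel

theorem sec_inj : ∀ d : DihedralGroup 4,
    vIdx.any (fun v => Nat.beq (sec d) v) = true → d = 1 := by decide +kernel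

theorem sec_surj : ∀ i ∈ rIdx, ∃ d : DihedralGroup 4,
    vIdx.any (fun v => Nat.beq i (mi v (sec d))) = true := by decide +kernel

theorem sec_comm : ∀ d : DihedralGroup 4, (Nat.blt (sec d) 1024 &&
    Nat.beq (mi (sec d) 1) (mi 1 (sec d)) && Nat.beq (mi (sec d) 212) (mi 212 (sec d)) &&
    Nat.beq (mi (sec d) 193) (mi 193 (sec d))) = true := by decide +kernel

theorem h35_ok : (memC hw276 co3_chain h3 && memC hw276 co3_chain h5 &&
    Nat.beq (ppow 276 9 h3 3) (pone 276 9) && pNotOne 276 9 h3 &&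
    Nat.beq (ppow 276 9 h5 5) (pone 276 9) && pNotOne 276 9 h5 &&
    Nat.beq (mulP 276 9 h3 uCode) (mulP 276 9 uCode h3) &&
    Nat.beq (mulP 276 9 h3 aCode) (mulP 276 9 aCode h3) &&
    Nat.beq (mulP 276 9 h5 uCode) (mulP 276 9 uCode h5) &&
    Nat.beq (mulP 276 9 h5 aCode) (mulP 276 9 aCode h5) &&
    Nat.beq (mulP 276 9 h3 h5) tCode) = true := by decide +kernel

theorem exists_three_five : ∃ x y : M, orderOf x = 3 ∧ orderOf y = 5 ∧ x * y = τA ∧
    x * τB = τB * x ∧ x * αA = αA * x ∧ y * τB = τB * y ∧ y * αA = αA * y := by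
  have h := h35_ok
  simp only [Bool.and_eq_true] at h
  obtain ⟨⟨⟨⟨⟨⟨⟨⟨⟨⟨hm, hm'⟩, hp⟩, hn⟩, hp'⟩, hn'⟩, c1⟩, c2⟩, c3⟩, c4⟩, hxy⟩ := h
  haveI : Fact (Nat.Prime 3) := ⟨by norm_num⟩
  haveI : Fact (Nat.Prime 5) := ⟨by norm_num⟩
  have ix := el_has hch hm
  have iy := el_has hch hm'
  have iu := el_has hch uCode_mem
  have ia := el_has hch aCode_mem
  exact ⟨el hch hm, el hch hm', orderOf_eq_prime ((ix.pow 3).eq hasOne hp) (ix.ne_one hn),
    orderOf_eq_prime ((iy.pow 5).eq hasOne hp') (iy.ne_one hn'),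
    (ix.mul iy).eq (el_has hch tCode_mem) hxy, (ix.mul iu).eq (iu.mul ix) c1,
    (ix.mul ia).eq (ia.mul ix) c2, (iy.mul iu).eq (iu.mul iy) c3, (iy.mul ia).eq (ia.mul iy) c4⟩

end Cfsg.Agent.Lib.Co3End61
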