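import Cfsg.Agent.Lib.Co3End61.CTDef
import Cfsg.Agent.Lib.Co3End61.GraphData
import Cfsg.Agent.S2093
import Cfsg.Prelude.Def_SporadicB

/-!
A non-split double cover of the symplectic group in dimension six over two elements embeds in the
centraliser of the first involution of the model.
-/

set_option autoImplicit false
set_option maxRecDepth 8000

namespace Cfsg.Agent.Lib.Co3End61

open Cfsg Cfsg.Agent.Lib.Co3Model
open Cfsg.Agent.Lib.Computation (permRep decodeP okPerm decodeP_mulP)
open Cfsg.Agent.Lib.Schur
open Matrix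
open scoped commutatorElement

/-- The certified double cover. -/
noncomputable abbrev K6 : Subgroup (Equiv.Perm (Fin 304)) := Cfsg.Agent.S2093.K

theorem finite_K6 : Finite K6 := Nat.finite_of_card_ne_zero (by rw [S2093.card_K]; norm_num)

theorem commutator_sp_six : commutator (symplecticGroup (Fin 3) (ZMod 2)) = ⊤ :=
  Symplectic.commutator_sp_eq_top (Or.inl le_rfl)

theorem isSimpleGroup_psp_six : IsSimpleGroup (PSp 3 (ZMod 2)) :=
  Symplectic.isSimpleGroup_psp (by norm_num) (Or.inl le_rfl)

theorem commutator_psp_six : commutator (PSp 3 (ZMod 2)) = ⊤ := by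
  rw [_root_.commutator_def, ← Subgroup.map_top_of_surjective
    (QuotientGroup.mk' (Subgroup.center (symplecticGroup (Fin 3) (ZMod 2))))
    (QuotientGroup.mk'_surjective _), ← Subgroup.map_commutator, ← _root_.commutator_def, commutator_sp_six]

/-- A central extension of a perfect group is perfect if the kernel lies in the derived group. -/
theorem commutator_eq_top_of_map {A B : Type*} [Group A] [Group B] (f : A →* B)
    (hf : Function.Surjective f) (hB : commutator B = ⊤) (hker : f.ker ≤ commutator A) :
    commutator A = ⊤ := by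
  have h1 : (commutator A).map f = ⊤ := by
    rw [_root_.commutator_def, Subgroup.map_commutator, Subgroup.map_top_of_surjective _ hf,
      ← _root_.commutator_def, hB]
  have h2 : commutator A ⊔ f.ker = ⊤ := by rw [← Subgroup.comap_map_eq, h1, Subgroup.comap_top]
  rwa [sup_eq_left.2 hker] at h2

/-- The cover is perfect and has the projection with kernel of order two generated by a central involution. -/
theorem cover_facts : commutator K6 = ⊤ ∧ ∃ (σ : K6 →* PSp 3 (ZMod 2)) (z : K6), Function.Surjective σ ∧
    σ.ker = Subgroup.zpowers z ∧ orderOf z = 2 ∧ z ∈ Subgroup.center K6 ∧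
    (z : Equiv.Perm (Fin 304)) = decodeP 304 9 Schur.S6Cover.zc := by
  have : Finite K6 := finite_K6
  obtain ⟨σ, hσ, hσb⟩ := S2093.exists_proj
  have h := S6Cover.z_ok
  simp only [Bool.and_eq_true, List.all_eq_true] at h
  obtain ⟨⟨⟨⟨⟨⟨⟨hz, hx⟩, hy⟩, hz1⟩, hblock⟩, hcomm⟩, hxy⟩, hzz⟩ := h
  have iz := PermMult.el_has S2093.check hz
  have ix := PermMult.el_has S2093.check hx
  have iy := PermMult.el_has S2093.check hy
  have hzσ : σ (PermMult.el S2093.check hz) = 1 := hσb _ _ _ hblock iz.2
  have : Fact (Nat.Prime 2) := ⟨Nat.prime_two⟩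
  have hz2 : orderOf (PermMult.el S2093.check hz) = 2 :=
    orderOf_eq_prime (by rw [pow_two]; exact (iz.mul iz).eq Schur.PermMult.hasOne hzz) (iz.ne_one hz1)
  have hcard : Nat.card σ.ker = 2 := by
    have h1 := σ.ker.card_mul_index
    rw [Subgroup.index_ker, MonoidHom.range_eq_top.2 hσ, Subgroup.card_top, S2093.card_psp,
      S2093.card_K] at h1
    omega
  have hker : σ.ker = Subgroup.zpowers (PermMult.el S2093.check hz) :=
    (Subgroup.eq_of_le_of_card_ge (Subgroup.zpowers_le.2 hzσ) (by rw [hcard, Nat.card_zpowers, hz2])).symm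
  have hcen : PermMult.el S2093.check hz ∈ Subgroup.center K6 := by
    rw [Subgroup.mem_center_iff]
    intro g
    have hle : K6 ≤ Subgroup.centralizer {(PermMult.el S2093.check hz : Equiv.Perm (Fin 304))} := by
      rw [show K6 = Subgroup.closure (decodeP 304 9 '' {s | s ∈ S6Cover.g_gens}) from
        (S2093.R.closure_eq_grp S6Cover.g_check).symm, Subgroup.closure_le]
      rintro _ ⟨c, hc, rfl⟩
      rw [SetLike.mem_coe, Subgroup.mem_centralizer_singleton_iff, iz.2]
      have hok : okPerm 304 9 c = true := by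
        have h := S6Cover.g_check
        simp only [Computation.Rep.checkClosure, Bool.and_eq_true, List.all_eq_true] at h
        exact (h.1.2 c hc).1
      rw [← decodeP_mulP hok iz.1, ← decodeP_mulP iz.1 hok, Nat.eq_of_beq_eq_true (hcomm c hc)]
    exact Subtype.ext (Subgroup.mem_centralizer_singleton_iff.1 (hle g.2))
  refine ⟨commutator_eq_top_of_map σ hσ commutator_psp_six ?_, σ, _, hσ, hker, hz2, hcen, rfl⟩
  rw [hker, Subgroup.zpowers_le]
  have he : ⁅PermMult.el S2093.check hx, PermMult.el S2093.check hy⁆ = PermMult.el S2093.check hz := by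
    rw [commutatorElement_def, mul_inv_eq_iff_eq_mul, mul_inv_eq_iff_eq_mul]
    exact (ix.mul iy).eq ((iz.mul iy).mul ix) hxy
  rw [← he]
  exact Subgroup.commutator_mem_commutator (Subgroup.mem_top _) (Subgroup.mem_top _)

/-- Every non-split double cover is the certified one. -/
theorem exists_cover_iso {H : Type*} [Group H] [Finite H]
    (hC : IsNonsplitDoubleCover H (symplecticGroup (Fin 3) (ZMod 2))) :
    Nonempty (↥K6 ≃* H) := by
  obtain ⟨hc2, ⟨e⟩, hns⟩ := hC
  have : Fact (Nat.Prime 2) := ⟨Nat.prime_two⟩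
  have : Finite K6 := finite_K6
  obtain ⟨hKperf, σ, z, hσ, -, -, -, -⟩ := cover_facts
  have hpc := S2093.card_psp
  let q : symplecticGroup (Fin 3) (ZMod 2) →* PSp 3 (ZMod 2) := QuotientGroup.mk' _
  have hqb : Function.Bijective q := (Nat.bijective_iff_surjective_and_card _).2
    ⟨QuotientGroup.mk'_surjective _, Schur.Sp62.card_sp62.trans hpc.symm⟩
  let τ : H →* PSp 3 (ZMod 2) := q.comp (e.toMonoidHom.comp (QuotientGroup.mk' (Subgroup.center H)))
  have hτs : Function.Surjective τ := hqb.2.comp (e.surjective.comp (QuotientGroup.mk'_surjective _))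
  have hτk : τ.ker = Subgroup.center H := by
    ext g
    rw [MonoidHom.mem_ker]
    show q (e (QuotientGroup.mk' _ g)) = 1 ↔ _
    rw [map_eq_one_iff q hqb.1, map_eq_one_iff e e.injective]
    exact QuotientGroup.eq_one_iff g
  have hmap : (commutator H).map τ = ⊤ := by
    rw [_root_.commutator_def, Subgroup.map_commutator, Subgroup.map_top_of_surjective _ hτs,
      ← _root_.commutator_def, commutator_psp_six]
  have hsup : commutator H ⊔ Subgroup.center H = ⊤ := by
    rw [← hτk, ← Subgroup.comap_map_eq, hmap, Subgroup.comap_top]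
  have hZle : Subgroup.center H ≤ commutator H := by
    by_contra hn
    refine hns (commutator H) ?_
    have hdisj : Subgroup.center H ⊓ commutator H = ⊥ := by
      have hd := Subgroup.card_dvd_of_le (inf_le_left : Subgroup.center H ⊓ commutator H ≤ Subgroup.center H)
      rw [hc2, Nat.dvd_prime Nat.prime_two] at hd
      rcases hd with hd | hd
      · exact Subgroup.eq_bot_of_card_eq _ hd
      · exact absurd ((Subgroup.eq_of_le_of_card_ge inf_le_left (by rw [hd, hc2])).ge.trans inf_le_right) hn
    exact Subgroup.isComplement'_of_disjoint_and_mul_eq_univ (disjoint_iff.2 hdisj)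
      (by rw [← Subgroup.normal_mul, sup_comm, hsup, Subgroup.coe_top])
  have hperf : commutator H = ⊤ := by rwa [sup_eq_left.2 hZle] at hsup
  obtain ⟨η, hη⟩ := Multiplier.exists_lift_of_trivial hKperf S2093.trivial_K σ τ hτs hτk.le
  have hsurj : Function.Surjective η := by
    rw [← MonoidHom.range_eq_top, eq_top_iff, ← hperf]
    refine (Multiplier.commutator_le_of_sup_central η.range (Subgroup.center H) le_rfl ?_).trans
      (Subgroup.commutator_le_self _)
    refine top_le_iff.1 fun g _ => ?_
    obtain ⟨k, hk⟩ := hσ (τ g)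
    have h1 : (η k)⁻¹ * g ∈ Subgroup.center H := by
      rw [← hτk, MonoidHom.mem_ker, map_mul, map_inv, ← MonoidHom.comp_apply, hη, hk, inv_mul_cancel]
    have := (η.range ⊔ Subgroup.center H).mul_mem
      (Subgroup.mem_sup_left (show η k ∈ η.range from ⟨k, rfl⟩)) (Subgroup.mem_sup_right h1)
    rwa [mul_inv_cancel_left] at this
  have hcard : Nat.card H = 2903040 := by
    rw [Subgroup.card_eq_card_quotient_mul_card_subgroup (Subgroup.center H), Nat.card_congr e.toEquiv,
      Schur.Sp62.card_sp62, hc2]
  exact ⟨MulEquiv.ofBijective η ((Nat.bijective_iff_surjective_and_card _).2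
    ⟨hsurj, S2093.card_K.trans hcard.symm⟩)⟩

theorem hw580 : 580 ≤ 2 ^ 10 := by norm_num

theorem graph_check : (permRep 580 10 hw580).checkClosure graph_gens graph_steps graph_chain = true := by
  decide +kernel

theorem graph_order : (permRep 580 10 hw580).order graph_chain = 2903040 := by decide +kernel

theorem graph_blocks : (Nat.beq graphLeft.length 2 && Nat.beq graph_gens.length 2 &&
    Nat.beq S6Cover.g_gens.length 2 &&
    ((List.range 2).all fun k => SplitBlock.blockOk 276 304 10 9 9 (graph_gens.getD k 0) (graphLeft.getD k 0)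
      (S6Cover.g_gens.getD k 0) && PermMult.memC hw276 co3_chain (graphLeft.getD k 0) &&
      (permRep 276 9 hw276).sift centChain (graphLeft.getD k 0)) &&
    SplitBlock.blockOk 276 304 10 9 9 graphZ tCode Schur.S6Cover.zc &&
    (permRep 580 10 hw580).sift graph_chain graphZ) = true := by decide +kernel

theorem block_mem {c a b : ℕ} {chn : List (Computation.Level ℕ)}
    (hb : SplitBlock.blockOk 276 304 10 9 9 c a b = true)
    (hc : (permRep 580 10 hw580).checkChain chn = true)
    (hs : (permRep 580 10 hw580).sift chn c = true) :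
    SplitBlock.blockEmb 276 304 (decodeP 276 9 a, decodeP 304 9 b) ∈ (permRep 580 10 hw580).grp chn := by
  have hok : okPerm 580 10 c = true := by
    simp only [SplitBlock.blockOk, Bool.and_eq_true] at hb
    exact hb.1.1.1.1
  have h := (permRep 580 10 hw580).mem_grp_of_sift hc hok hs
  rw [← SplitBlock.decodeP_block hb]
  exact h

/-- The certified cover embeds in the centraliser of the involution, the centre going onto it. -/
theorem exists_model_embedding : ∃ f : K6 →* M, Function.Injective f ∧
    (∀ k, f k ∈ CT) ∧ ∀ k ∈ Subgroup.center K6, k ≠ 1 → f k = τA := by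
  classical
  have : Finite K6 := finite_K6
  have h := graph_blocks
  simp only [Bool.and_eq_true, List.all_eq_true, List.mem_range, Nat.beq_eq] at h
  obtain ⟨⟨⟨⟨⟨hl, hg⟩, hk6⟩, hk⟩, hzb⟩, hzs⟩ := h
  let emb := SplitBlock.blockEmb 276 304
  have hinj : Function.Injective emb := Schur.SplitBlock.blockEmb_injective 276 304
  let pr : ℕ → Equiv.Perm (Fin 276) × Equiv.Perm (Fin 304) := fun k =>
    (decodeP 276 9 (graphLeft.getD k 0), decodeP 304 9 (S6Cover.g_gens.getD k 0))
  let Γ : Subgroup (Equiv.Perm (Fin 276) × Equiv.Perm (Fin 304)) :=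
    Subgroup.closure (pr '' {k | k < 2})
  have hmap : Γ.map emb = (permRep 580 10 hw580).grp graph_chain := by
    rw [← (permRep 580 10 hw580).closure_eq_grp graph_check, MonoidHom.map_closure]
    refine congrArg Subgroup.closure ?_
    ext p
    constructor
    · rintro ⟨_, ⟨k, hk2, rfl⟩, rfl⟩
      have hlt : k < graph_gens.length := by rw [hg]; exact hk2
      refine ⟨graph_gens.getD k 0, ?_, SplitBlock.decodeP_block (hk k hk2).1.1⟩
      show graph_gens.getD k 0 ∈ graph_gens
      rw [List.getD_eq_getElem _ _ hlt]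
      exact List.getElem_mem hlt
    · rintro ⟨c, hc, rfl⟩
      obtain ⟨k, hk2, rfl⟩ := List.getElem_of_mem hc
      have hk2' : k < 2 := by omega
      refine ⟨pr k, ⟨k, hk2', rfl⟩, ?_⟩
      rw [← List.getD_eq_getElem _ 0 hk2]
      exact (SplitBlock.decodeP_block (hk k hk2').1.1).symm
  have hcardΓ : Nat.card Γ = 2903040 := by
    have e : Nat.card ↥(Γ.map emb) = Nat.card Γ := Subgroup.card_map_of_injective hinj
    rw [← e, hmap, (permRep 580 10 hw580).card_grp
      ((permRep 580 10 hw580).checkChain_of_checkClosure graph_check), graph_order]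
  haveI : Finite Γ := Nat.finite_of_card_ne_zero (by rw [hcardΓ]; norm_num)
  let p2 : Γ →* Equiv.Perm (Fin 304) := (MonoidHom.snd _ _).comp Γ.subtype
  have hp2 : p2.range = K6 := by
    show p2.range = _
    rw [MonoidHom.range_comp, Subgroup.range_subtype, MonoidHom.map_closure,
      ← Set.image_comp, show K6 = Subgroup.closure (decodeP 304 9 '' {s | s ∈ S6Cover.g_gens}) from
        (S2093.R.closure_eq_grp S6Cover.g_check).symm]
    refine congrArg Subgroup.closure ?_
    ext p
    constructor
    · rintro ⟨k, hk2, rfl⟩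
      have hlt : k < S6Cover.g_gens.length := by rw [hk6]; exact hk2
      refine ⟨S6Cover.g_gens.getD k 0, ?_, rfl⟩
      show S6Cover.g_gens.getD k 0 ∈ S6Cover.g_gens
      rw [List.getD_eq_getElem _ _ hlt]
      exact List.getElem_mem hlt
    · rintro ⟨c, hc, rfl⟩
      obtain ⟨k, hk2, rfl⟩ := List.getElem_of_mem hc
      exact ⟨k, show k < 2 by omega, by rw [← List.getD_eq_getElem _ 0 hk2]; rfl⟩
  let p2' : Γ →* K6 := p2.codRestrict K6 fun x => hp2 ▸ ⟨x, rfl⟩
  have hp2b : Function.Bijective p2' := (Nat.bijective_iff_surjective_and_card _).2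
    ⟨fun k => by
      obtain ⟨x, hx⟩ : (k : Equiv.Perm (Fin 304)) ∈ p2.range := by rw [hp2]; exact k.2
      exact ⟨x, Subtype.ext hx⟩, hcardΓ.trans S2093.card_K.symm⟩
  have hΓle : Γ ≤ (CT.map
      ((permRep 276 9 hw276).grp co3_chain).subtype).comap (MonoidHom.fst _ _) := by
    rw [Subgroup.closure_le]
    rintro _ ⟨k, hk2, rfl⟩
    have hm := (hk k hk2).1.2
    exact ⟨Schur.PermMult.el hch hm, (permRep 276 9 hw276).mem_grp_of_sift centChain_ok
      (Schur.PermMult.el_has hch hm).1 (hk k hk2).2, rfl⟩
  have hfst : ∀ x : Γ, (x : Equiv.Perm (Fin 276) × Equiv.Perm (Fin 304)).1 ∈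
      (permRep 276 9 hw276).grp co3_chain := by
    intro x
    obtain ⟨m, -, hm⟩ := hΓle x.2
    have e : (x : Equiv.Perm (Fin 276) × Equiv.Perm (Fin 304)).1 = (m : Equiv.Perm (Fin 276)) := hm.symm
    rw [e]
    exact m.2
  let p1 : Γ →* M := ((MonoidHom.fst _ _).comp Γ.subtype).codRestrict _ hfst
  let f : K6 →* M := p1.comp (MulEquiv.ofBijective p2' hp2b).symm.toMonoidHom
  have hcomm : ∀ k, f k ∈ CT := by
    intro k
    obtain ⟨m, hm, hme⟩ := hΓle ((MulEquiv.ofBijective p2' hp2b).symm k).2
    have e : f k = m := Subtype.ext hme.symm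
    rw [e]
    exact hm
  obtain ⟨hperf, σ, z, hσ, hker, hz2, hzc, hzval⟩ := cover_facts
  have hfz : f z = τA := by
    have hmem := block_mem hzb
      ((permRep 580 10 hw580).checkChain_of_checkClosure graph_check) hzs
    rw [← hmap] at hmem
    obtain ⟨g, hg, hge⟩ := hmem
    have hge' : g = (decodeP 276 9 tCode, decodeP 304 9 Schur.S6Cover.zc) := hinj hge
    have e : (MulEquiv.ofBijective p2' hp2b).symm z = ⟨g, hg⟩ := by
      rw [MulEquiv.symm_apply_eq]
      refine Subtype.ext ?_
      show (z : Equiv.Perm (Fin 304)) = g.2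
      rw [hge', hzval]
    show p1 ((MulEquiv.ofBijective p2' hp2b).symm z) = τA
    rw [e]
    refine Subtype.ext ?_
    show g.1 = decodeP 276 9 tCode
    rw [hge']
  refine ⟨f, ?_, hcomm, ?_⟩
  · rw [← MonoidHom.ker_eq_bot_iff]
    haveI := isSimpleGroup_psp_six
    have hzf : z ∉ f.ker := by
      rw [MonoidHom.mem_ker, hfz]
      exact (Schur.PermMult.el_has hch tCode_mem).ne_one (by decide +kernel)
    rcases IsSimpleGroup.eq_bot_or_eq_top_of_normal (f.ker.map σ) (Subgroup.Normal.map inferInstance σ hσ)
      with h | h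
    · have hle : f.ker ≤ Subgroup.zpowers z := hker ▸ (Subgroup.map_eq_bot_iff _).1 h
      have hd := Subgroup.card_dvd_of_le hle
      rw [Nat.card_zpowers, hz2, Nat.dvd_prime Nat.prime_two] at hd
      rcases hd with hd | hd
      · exact Subgroup.eq_bot_of_card_eq _ hd
      · exact absurd ((Subgroup.eq_of_le_of_card_ge hle (by rw [hd, Nat.card_zpowers, hz2])) ▸
          Subgroup.mem_zpowers z) hzf
    · exfalso
      have hsup : f.ker ⊔ σ.ker = ⊤ := by rw [← Subgroup.comap_map_eq, h, Subgroup.comap_top]
      have hle := Multiplier.commutator_le_of_sup_central f.ker σ.ker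
        (by rw [hker, Subgroup.zpowers_le]; exact hzc) hsup
      exact hzf ((hperf ▸ hle).trans (Subgroup.commutator_le_self _) (Subgroup.mem_top z))
  · intro k hk hk1
    have : k = z := by
      have hcs : σ k ∈ Subgroup.center (PSp 3 (ZMod 2)) := by
        rw [Subgroup.mem_center_iff]
        intro w
        obtain ⟨v, rfl⟩ := hσ w
        rw [← map_mul, ← map_mul, Subgroup.mem_center_iff.1 hk v]
      haveI := isSimpleGroup_psp_six
      have hbot : Subgroup.center (PSp 3 (ZMod 2)) = ⊥ := by
        rcases IsSimpleGroup.eq_bot_or_eq_top_of_normal (Subgroup.center (PSp 3 (ZMod 2))) inferInstance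
          with h | h
        · exact h
        · have hcomm : commutator (PSp 3 (ZMod 2)) = ⊥ := by
            rw [_root_.commutator_def, Subgroup.commutator_eq_bot_iff_le_centralizer, Subgroup.coe_top,
              Subgroup.centralizer_univ, h]
          rw [commutator_psp_six] at hcomm
          exact absurd hcomm top_ne_bot
      rw [hbot, Subgroup.mem_bot] at hcs
      have hkz : k ∈ Subgroup.zpowers z := hker ▸ hcs
      rw [mem_zpowers_iff_mem_range_orderOf, hz2] at hkz
      simp only [Finset.mem_image, Finset.mem_range] at hkz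
      obtain ⟨n, hn, rfl⟩ := hkz
      interval_cases n
      · exact absurd (pow_zero z) hk1
      · exact pow_one z
    rw [this, hfz]

/-- A centraliser which is such a cover embeds in that of the first involution of the model. -/
theorem exists_cent_embedding {G : Type*} [Group G] [Finite G] {t : G} (ht : orderOf t = 2)
    (hC : IsNonsplitDoubleCover (Subgroup.centralizer ({t} : Set G)) (symplecticGroup (Fin 3) (ZMod 2))) :
    ∃ e : ↥(Subgroup.centralizer ({t} : Set G)) →* M, Function.Injective e ∧
      e ⟨t, Subgroup.mem_centralizer_singleton_iff.2 rfl⟩ = τA ∧ e.range = CT := by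
  obtain ⟨η⟩ := exists_cover_iso hC
  obtain ⟨f, hf, hcomm, hz⟩ := exists_model_embedding
  have hinj : Function.Injective (f.comp η.symm.toMonoidHom) := hf.comp η.symm.injective
  refine ⟨f.comp η.symm.toMonoidHom, hinj, hz _ ?_ ?_, Subgroup.eq_of_le_of_card_ge
    (by rintro _ ⟨x, rfl⟩; exact hcomm _) ?_⟩
  · rw [Subgroup.mem_center_iff]
    intro k
    refine η.injective ?_
    show η (k * η.symm _) = η (η.symm _ * k)
    rw [map_mul, map_mul, η.apply_symm_apply]
    exact Subtype.ext (Subgroup.mem_centralizer_singleton_iff.1 (η k).2)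
  · intro h
    have h' : t = 1 := congrArg Subtype.val (η.symm.map_eq_one_iff.1 h)
    rw [h', orderOf_one] at ht
    norm_num at ht
  · rw [card_CT, Nat.card_congr (MonoidHom.ofInjective hinj).toEquiv.symm, ← Nat.card_congr η.toEquiv,
      S2093.card_K]

/-- The centraliser has order 2903040. -/
theorem card_cent {G : Type*} [Group G] [Finite G] {t : G}
    (hC : IsNonsplitDoubleCover (Subgroup.centralizer ({t} : Set G)) (symplecticGroup (Fin 3) (ZMod 2))) :
    Nat.card ↥(Subgroup.centralizer ({t} : Set G)) = 2903040 := by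
  obtain ⟨η⟩ := exists_cover_iso hC
  rw [← Nat.card_congr η.toEquiv, S2093.card_K]

end Cfsg.Agent.Lib.Co3End61
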