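import Cfsg.Agent.Lib.Co3End61.Pc
import Cfsg.Agent.Lib.Co3End61.WitData
import Cfsg.Agent.Lib.Involutions.Basic

/-!
The fusion of the involutions of the Sylow 2-subgroup.
-/

set_option autoImplicit false
set_option maxRecDepth 4000

namespace Cfsg.Agent.Lib.Co3End61

open Cfsg Cfsg.Agent.Lib.Co3Model
open Cfsg.Agent.Lib.Computation
open Cfsg.Agent.Lib.Schur.PermMult

instance finiteM : Finite M := (permRep 276 9 hw276).finite_grp hch

/-- The third involution. -/
noncomputable def αA : M := el hch aCode_mem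

theorem E_a : E 193 = αA := (E_has (by norm_num)).eq (el_has hch aCode_mem) (by decide +kernel)

theorem tu_index : mi 1 212 = 213 ∧ mi 212 1 = 213 ∧ mi 193 212 = 21 ∧ mi 212 193 = 21 ∧
    mi 1 193 = mi 193 1 := by decide +kernel

theorem E_tu : E 213 = τA * τB := by
  rw [← E_one, ← E_u, ← E_mi (by norm_num) (by norm_num), tu_index.1]

theorem E_au : E 21 = αA * τB := by
  rw [← E_a, ← E_u, ← E_mi (by norm_num) (by norm_num), tu_index.2.2.1]

theorem comm_tu : τA * τB = τB * τA := by
  rw [← E_one, ← E_u, commute_iff (by norm_num) (by norm_num), tu_index.1, tu_index.2.1]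

theorem comm_au : αA * τB = τB * αA := by
  rw [← E_a, ← E_u, commute_iff (by norm_num) (by norm_num), tu_index.2.2.1, tu_index.2.2.2.1]

theorem comm_ta : τA * αA = αA * τA := by
  rw [← E_one, ← E_a, commute_iff (by norm_num) (by norm_num)]
  exact tu_index.2.2.2.2

theorem orderOf_E {i : ℕ} (hi : i < 1024) (h0 : i ≠ 0) (h : mi i i = 0) : orderOf (E i) = 2 := by
  refine orderOf_eq_prime ?_ fun he => h0 (E_inj hi (by norm_num) (he.trans E_zero.symm))
  rw [pow_two, ← E_mi hi hi, h, E_zero]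

theorem orderOf_τA : orderOf τA = 2 :=
  E_one ▸ orderOf_E (by norm_num) (by norm_num) (by decide +kernel)

theorem orderOf_τB : orderOf τB = 2 :=
  E_u ▸ orderOf_E (by norm_num) (by norm_num) (by decide +kernel)

theorem orderOf_αA : orderOf αA = 2 :=
  E_a ▸ orderOf_E (by norm_num) (by norm_num) (by decide +kernel)

/-- An entry of the witnesses is right. -/
noncomputable def invEntryOk (e : ℕ × Bool × ℕ) : Bool :=
  Nat.blt e.1 1024 && memC hw276 co3_chain e.2.2 &&
    Nat.beq (mulP 276 9 e.2.2 (cd e.1)) (mulP 276 9 (cd (bif e.2.1 then 1 else 212)) e.2.2)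

theorem invWit_ok : invWit.all invEntryOk = true := by decide +kernel

/-- The class of a normal form is recorded. -/
def tagged (b : Bool) (i : ℕ) : Bool := invWit.any fun e => Nat.beq e.1 i && (e.2.1 == b)

theorem inv_cover : ((List.range 1024).all fun i =>
    !Nat.beq (mi i i) 0 || Nat.beq i 0 || tagged true i || tagged false i) = true := by
  decide +kernel

theorem conj_of_tagged {b : Bool} {i : ℕ} (h : tagged b i = true) :
    i < 1024 ∧ ∃ c : M, c * E i * c⁻¹ = if b then τA else τB := by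
  obtain ⟨e, he, h'⟩ := List.any_eq_true.1 h
  rw [Bool.and_eq_true, beq_iff_eq] at h'
  obtain ⟨h1, rfl⟩ := h'
  obtain rfl := Nat.eq_of_beq_eq_true h1
  have ho := List.all_eq_true.1 invWit_ok e he
  simp only [invEntryOk, Bool.and_eq_true, Nat.blt_eq] at ho
  obtain ⟨⟨hi, hm⟩, hq⟩ := ho
  refine ⟨hi, el hch hm, mul_inv_eq_iff_eq_mul.2 ?_⟩
  cases hb : e.2.1 <;> rw [hb] at hq <;>
    simp only [Bool.false_eq_true, if_false, if_true, cond_false, cond_true] at hq ⊢
  · rw [← E_u]; exact ((el_has hch hm).mul (E_has hi)).eq ((E_has (by norm_num)).mul (el_has hch hm)) hq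
  · rw [← E_one]; exact ((el_has hch hm).mul (E_has hi)).eq ((E_has (by norm_num)).mul (el_has hch hm)) hq

theorem tagged_of_inv {i : ℕ} (hi : i < 1024) (h0 : i ≠ 0) (h : mi i i = 0) :
    tagged true i = true ∨ tagged false i = true := by
  have hc := List.all_eq_true.1 inv_cover i (List.mem_range.2 hi)
  simp only [Bool.or_eq_true, Bool.not_eq_true'] at hc
  rcases hc with ((hc | hc) | hc) | hc
  · rw [h, Nat.beq_refl] at hc; exact absurd hc (by simp)
  · exact absurd (Nat.eq_of_beq_eq_true hc) h0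
  · exact Or.inl hc
  · exact Or.inr hc

theorem index_of_inv {x : M} (hx : x ∈ S2) (h2 : orderOf x = 2) :
    ∃ i < 1024, x = E i ∧ (tagged true i = true ∨ tagged false i = true) := by
  obtain ⟨i, hi, rfl⟩ := mem_S2.1 hx
  obtain ⟨hsq, hne⟩ := (orderOf_eq_prime_iff (p := 2)).1 h2
  refine ⟨i, hi, rfl, tagged_of_inv hi (fun h => hne (by rw [h, E_zero])) ?_⟩
  refine E_inj (mi_lt hi) (by norm_num) ?_
  rw [E_mi hi hi, ← pow_two, hsq, E_zero]

/-- Each involution of the subgroup is conjugate to one of the two. -/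
theorem inv_cases {x : M} (hx : x ∈ S2) (h2 : orderOf x = 2) :
    ∃ c : M, c * x * c⁻¹ = τA ∨ c * x * c⁻¹ = τB := by
  obtain ⟨i, -, rfl, h | h⟩ := index_of_inv hx h2
  · obtain ⟨-, c, hc⟩ := conj_of_tagged h; exact ⟨c, Or.inl (by simpa using hc)⟩
  · obtain ⟨-, c, hc⟩ := conj_of_tagged h; exact ⟨c, Or.inr (by simpa using hc)⟩

theorem card_subtype_count (n : ℕ) (p : ℕ → Bool) :
    Nat.card {i : Fin n // p i = true} = ((List.range n).filter p).length := by
  rw [← List.toFinset_card_of_nodup (List.nodup_range.filter p), ← Fintype.card_coe,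
    ← Nat.card_eq_fintype_card]
  exact Nat.card_congr
    { toFun := fun i => ⟨(i.1 : ℕ), by simp [i.2]⟩
      invFun := fun m => ⟨⟨m.1, by have := m.2; simp at this; exact this.1⟩,
        by have := m.2; simp at this; exact this.2⟩
      left_inv := fun _ => rfl
      right_inv := fun _ => rfl }

/-- The number of normal forms commuting with one. -/
def commCount (i : ℕ) : ℕ := ((List.range 1024).filter fun j => Nat.beq (mi j i) (mi i j)).length

theorem card_cent_E {i : ℕ} (hi : i < 1024) :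
    Nat.card ↥(Subgroup.centralizer ({E i} : Set M) ⊓ S2) = commCount i := by
  rw [commCount, ← card_subtype_count]
  refine (Nat.card_congr (Equiv.ofBijective
    (fun j : {j : Fin 1024 // Nat.beq (mi (j : ℕ) i) (mi i (j : ℕ)) = true} =>
      (⟨E (j.1 : ℕ), Subgroup.mem_inf.2 ⟨Subgroup.mem_centralizer_singleton_iff.2
        ((commute_iff j.1.2 hi).2 (Nat.eq_of_beq_eq_true j.2)), E_mem j.1.2⟩⟩ :
        ↥(Subgroup.centralizer ({E i} : Set M) ⊓ S2))) ⟨?_, ?_⟩)).symm
  · intro a b h
    exact Subtype.ext (Fin.ext (E_inj a.1.2 b.1.2 (congrArg Subtype.val h)))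
  · intro g
    obtain ⟨hg1, hg2⟩ := Subgroup.mem_inf.1 g.2
    obtain ⟨j, hj, e⟩ := mem_S2.1 hg2
    refine ⟨⟨⟨j, hj⟩, ?_⟩, Subtype.ext e.symm⟩
    rw [Subgroup.mem_centralizer_singleton_iff, e, commute_iff hj hi] at hg1
    show Nat.beq (mi j i) (mi i j) = true
    rw [hg1]; exact Nat.beq_refl _

theorem count_false : (invWit.all fun e => e.2.1 || Nat.ble (commCount e.1) 128) = true := by
  decide +kernel

theorem count_u : Nat.beq (commCount 212) 128 = true := by decide +kernel

/-- The part of the Sylow subgroup centralising the second involution. -/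
noncomputable def S2u : Subgroup M := Subgroup.centralizer ({τB} : Set M) ⊓ S2

theorem card_S2u : Nat.card S2u = 128 := by
  rw [S2u, ← E_u, card_cent_E (by norm_num)]
  exact Nat.eq_of_beq_eq_true count_u

theorem tagged_false_of_not_conj {i : ℕ} (hi : i < 1024) (hne : ¬ IsConj τA τB)
    (h : IsConj (E i) τB) : tagged false i = true := by
  have h2 : orderOf (E i) = 2 := by
    obtain ⟨c, hc⟩ := isConj_iff.1 h
    rw [← Involutions.Basic.orderOf_conj_eq c, hc, orderOf_τB]
  obtain ⟨j, hj, e, ht | ht⟩ := index_of_inv (E_mem hi) h2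
  · obtain rfl := E_inj hi hj e
    obtain ⟨-, c, hc⟩ := conj_of_tagged ht
    exact absurd ((isConj_iff.2 ⟨c, by simpa using hc⟩ : IsConj (E i) τA).symm.trans h) hne
  · obtain rfl := E_inj hi hj e
    exact ht

/-- The centraliser in the Sylow subgroup of an involution of the second class. -/
theorem card_cent_le {x : M} (hx : x ∈ S2) (hne : ¬ IsConj τA τB) (h : IsConj x τB) :
    Nat.card ↥(Subgroup.centralizer ({x} : Set M) ⊓ S2) ≤ 128 := by
  obtain ⟨i, hi, rfl⟩ := mem_S2.1 hx
  obtain ⟨e, he, h'⟩ := List.any_eq_true.1 (tagged_false_of_not_conj hi hne h)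
  rw [Bool.and_eq_true, beq_iff_eq] at h'
  have hc := List.all_eq_true.1 count_false e he
  rw [h'.2, Bool.false_or] at hc
  rw [card_cent_E hi, ← Nat.eq_of_beq_eq_true h'.1]
  exact Nat.le_of_ble_eq_true hc

theorem center_ok : ((List.range 1024).all fun i =>
    !((List.range 10).all fun k => Nat.beq (mi (Nat.pow 2 k) i) (mi i (Nat.pow 2 k))) ||
      Nat.beq i 0 || Nat.beq i 1) = true := by decide +kernel

/-- The centre of the Sylow subgroup. -/
theorem center_S2 {x : M} (hx : x ∈ S2) (h : ∀ y ∈ S2, y * x = x * y) : x = 1 ∨ x = τA := by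
  obtain ⟨i, hi, rfl⟩ := mem_S2.1 hx
  have hc := List.all_eq_true.1 center_ok i (List.mem_range.2 hi)
  have hall : ((List.range 10).all fun k => Nat.beq (mi (Nat.pow 2 k) i) (mi i (Nat.pow 2 k))) = true := by
    rw [List.all_eq_true]
    intro k hk
    have hk' : Nat.pow 2 k < 1024 := Nat.pow_lt_pow_right (by norm_num) (List.mem_range.1 hk)
    rw [(commute_iff hk' hi).1 (h _ (E_mem hk'))]
    exact Nat.beq_refl _
  rw [hall, Bool.not_true, Bool.false_or, Bool.or_eq_true] at hc
  rcases hc with hc | hc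
  · rw [Nat.eq_of_beq_eq_true hc]; exact Or.inl E_zero
  · rw [Nat.eq_of_beq_eq_true hc]; exact Or.inr E_one

theorem side_tags : tagged false 213 = true ∧ tagged false 193 = true ∧ tagged false 21 = true := by
  decide +kernel

theorem isConj_tu : IsConj (τA * τB) τB := by
  obtain ⟨-, c, hc⟩ := conj_of_tagged side_tags.1
  exact isConj_iff.2 ⟨c, by simpa [E_tu] using hc⟩

theorem isConj_a : IsConj αA τB := by
  obtain ⟨-, c, hc⟩ := conj_of_tagged side_tags.2.1
  exact isConj_iff.2 ⟨c, by simpa [E_a] using hc⟩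

theorem isConj_au : IsConj (αA * τB) τB := by
  obtain ⟨-, c, hc⟩ := conj_of_tagged side_tags.2.2
  exact isConj_iff.2 ⟨c, by simpa [E_au] using hc⟩

/-- An entry of the witnesses in the centraliser is right. -/
noncomputable def centEntryOk (e : ℕ × ℕ × ℕ) : Bool :=
  Nat.blt e.1 1024 && memC hw276 co3_chain e.2.2 &&
    (Nat.beq e.2.1 1 || Nat.beq e.2.1 213 || Nat.beq e.2.1 193 || Nat.beq e.2.1 21) &&
    Nat.beq (mulP 276 9 e.2.2 (cd e.1)) (mulP 276 9 (cd e.2.1) e.2.2) &&
    Nat.beq (mulP 276 9 e.2.2 uCode) (mulP 276 9 uCode e.2.2)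

theorem centWit_ok : centWit.all centEntryOk = true := by decide +kernel

theorem cent_cover : ((List.range 1024).all fun i =>
    !Nat.beq (mi i 212) (mi 212 i) || !(Nat.beq (mi i i) 0 || Nat.beq (mi i i) 212) ||
      Nat.beq i 0 || Nat.beq i 212 || centWit.any fun e => Nat.beq e.1 i) = true := by decide +kernel

/-- Each involution modulo the second involution is conjugate to one of four in its centraliser. -/
theorem su_cases {x : M} (hx : x ∈ S2u) (h : x * x = 1 ∨ x * x = τB) :
    x = 1 ∨ x = τB ∨ ∃ c : M, c * τB = τB * c ∧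
      (c * x * c⁻¹ = τA ∨ c * x * c⁻¹ = τA * τB ∨ c * x * c⁻¹ = αA ∨ c * x * c⁻¹ = αA * τB) := by
  obtain ⟨hxu, hxS⟩ := Subgroup.mem_inf.1 hx
  obtain ⟨i, hi, rfl⟩ := mem_S2.1 hxS
  rw [Subgroup.mem_centralizer_singleton_iff, ← E_u, commute_iff hi (by norm_num)] at hxu
  have hsq : mi i i = 0 ∨ mi i i = 212 := by
    rcases h with h | h
    · exact Or.inl (E_inj (mi_lt hi) (by norm_num) (by rw [E_mi hi hi, h, E_zero]))
    · exact Or.inr (E_inj (mi_lt hi) (by norm_num) (by rw [E_mi hi hi, h, E_u]))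
  have hc := List.all_eq_true.1 cent_cover i (List.mem_range.2 hi)
  have e1 : Nat.beq (mi i 212) (mi 212 i) = true := by rw [hxu]; exact Nat.beq_refl _
  have e2 : (Nat.beq (mi i i) 0 || Nat.beq (mi i i) 212) = true := by
    rcases hsq with h' | h' <;> simp [h']
  rw [e1, e2, Bool.not_true, Bool.false_or, Bool.false_or, Bool.or_eq_true, Bool.or_eq_true] at hc
  rcases hc with (hc | hc) | hc
  · rw [Nat.eq_of_beq_eq_true hc]; exact Or.inl E_zero
  · rw [Nat.eq_of_beq_eq_true hc]; exact Or.inr (Or.inl E_u)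
  obtain ⟨e, he, hei⟩ := List.any_eq_true.1 hc
  have ho := List.all_eq_true.1 centWit_ok e he
  simp only [centEntryOk, Bool.and_eq_true, Bool.or_eq_true] at ho
  obtain ⟨⟨⟨⟨-, hm⟩, htg⟩, hq⟩, hu⟩ := ho
  rw [Nat.eq_of_beq_eq_true hei] at hq
  refine Or.inr (Or.inr ⟨el hch hm, ((el_has hch hm).mul (el_has hch uCode_mem)).eq
    ((el_has hch uCode_mem).mul (el_has hch hm)) hu, ?_⟩)
  have key : e.2.1 < 1024 → el hch hm * E i * (el hch hm)⁻¹ = E e.2.1 := fun hlt =>
    mul_inv_eq_iff_eq_mul.2 (((el_has hch hm).mul (E_has hi)).eq ((E_has hlt).mul (el_has hch hm)) hq)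
  rcases htg with ((h1 | h1) | h1) | h1 <;> have h1' := Nat.eq_of_beq_eq_true h1 <;> rw [h1'] at key
  · exact Or.inl (by rw [← E_one]; exact key (by norm_num))
  · exact Or.inr (Or.inl (by rw [← E_tu]; exact key (by norm_num)))
  · exact Or.inr (Or.inr (Or.inl (by rw [← E_a]; exact key (by norm_num))))
  · exact Or.inr (Or.inr (Or.inr (by rw [← E_au]; exact key (by norm_num))))

theorem swap_ok : ((List.range 1024).all fun q =>
    !Nat.beq (mi q 212) (mi 212 q) || !(tagged false q && tagged false (mi q 212)) ||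
      (List.range 1024).all fun p =>
        !Nat.beq (mi p 212) (mi 212 p) || !Nat.beq (mi p q) (mi (mi q 212) p)) = true := by
  decide +kernel

/-- No member moves an involution to its product with the second one, both of the second class. -/
theorem no_swap {p q : M} (hp : p ∈ S2u) (hq : q ∈ S2u) (hne : ¬ IsConj τA τB) (h1 : IsConj q τB)
    (h2 : IsConj (q * τB) τB) : p * q * p⁻¹ ≠ q * τB := by
  obtain ⟨hpu, hpS⟩ := Subgroup.mem_inf.1 hp
  obtain ⟨hqu, hqS⟩ := Subgroup.mem_inf.1 hq
  obtain ⟨i, hi, rfl⟩ := mem_S2.1 hqS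
  obtain ⟨j, hj, rfl⟩ := mem_S2.1 hpS
  rw [Subgroup.mem_centralizer_singleton_iff, ← E_u, commute_iff hi (by norm_num)] at hqu
  rw [Subgroup.mem_centralizer_singleton_iff, ← E_u, commute_iff hj (by norm_num)] at hpu
  rw [← E_u, ← E_mi hi (by norm_num)] at h2 ⊢
  intro he
  rw [mul_inv_eq_iff_eq_mul, ← E_mi hj hi, ← E_mi (mi_lt (by norm_num)) hj] at he
  have he' := E_inj (mi_lt hi) (mi_lt hj) he
  have hc := List.all_eq_true.1 swap_ok i (List.mem_range.2 hi)
  have e1 : Nat.beq (mi i 212) (mi 212 i) = true := by rw [hqu]; exact Nat.beq_refl _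
  have e2 : (tagged false i && tagged false (mi i 212)) = true := by
    rw [Bool.and_eq_true]
    rw [E_u] at h2
    exact ⟨tagged_false_of_not_conj hi hne h1,
      tagged_false_of_not_conj (mi_lt (by norm_num)) hne h2⟩
  rw [e1, e2, Bool.not_true, Bool.false_or, Bool.false_or, List.all_eq_true] at hc
  have hc' := hc j (List.mem_range.2 hj)
  simp only [hpu, he', Nat.beq_refl, Bool.not_true, Bool.or_self, Bool.false_eq_true] at hc'

theorem h11_ok : (memC hw276 co3_chain h11 && Nat.beq (ppow 276 9 h11 11) (pone 276 9) &&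
    pNotOne 276 9 h11 && Nat.beq (mulP 276 9 h11 uCode) (mulP 276 9 uCode h11)) = true := by
  decide +kernel

theorem exists_eleven : ∃ η : M, η * τB = τB * η ∧ orderOf η = 11 := by
  have h := h11_ok
  simp only [Bool.and_eq_true] at h
  obtain ⟨⟨⟨hm, hp⟩, hn⟩, hc⟩ := h
  haveI : Fact (Nat.Prime 11) := ⟨by norm_num⟩
  exact ⟨el hch hm, ((el_has hch hm).mul (el_has hch uCode_mem)).eq
    ((el_has hch uCode_mem).mul (el_has hch hm)) hc,
    orderOf_eq_prime (((el_has hch hm).pow 11).eq hasOne hp) ((el_has hch hm).ne_one hn)⟩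

end Cfsg.Agent.Lib.Co3End61
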