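import Mathlib
import Cfsg.Agent.Lib.Involutions.StronglyEmbedded

/-!
A subgroup containing two classes of involutions and their centralisers is everything.
-/

set_option autoImplicit false

namespace Cfsg.Agent.Lib.Co3End61

open Cfsg.Agent.Lib.Involutions

/-- A subgroup containing the centralisers of two involutions which are not conjugate in the whole
group is everything, if each of its involutions is conjugate in it to one of them. -/
theorem eq_top_of_centralizers {X : Type*} [Group X] [Finite X] (K : Subgroup X) {s t : X}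
    (hs : orderOf s = 2) (ht : orderOf t = 2) (hsK : s ∈ K)
    (hne : ¬ IsConj s t)
    (hcls : ∀ x ∈ K, orderOf x = 2 → ∃ k ∈ K, k * x * k⁻¹ = s ∨ k * x * k⁻¹ = t)
    (hCs : Subgroup.centralizer ({s} : Set X) ≤ K) (hCt : Subgroup.centralizer ({t} : Set X) ≤ K) :
    K = ⊤ := by
  by_contra hK
  have heven : Even (Nat.card K) :=
    even_iff_two_dvd.2 (hs ▸ Subgroup.orderOf_dvd_natCard K hsK)
  have hcent : ∀ {w : X}, Subgroup.centralizer ({w} : Set X) ≤ K → ∀ {x k : X}, k ∈ K →
      k * x * k⁻¹ = w → ∀ {g k' : X}, k' ∈ K → k' * (g * x * g⁻¹) * k'⁻¹ = w → g ∈ K := by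
    intro w hw x k hk he g k' hk' he'
    have h : k' * g * k⁻¹ ∈ K := hw (Subgroup.mem_centralizer_singleton_iff.2 (by
      calc k' * g * k⁻¹ * w = k' * g * k⁻¹ * (k * x * k⁻¹) := by rw [he]
        _ = (k' * (g * x * g⁻¹) * k'⁻¹) * (k' * g * k⁻¹) := by group
        _ = w * (k' * g * k⁻¹) := by rw [he']))
    have h2 : k'⁻¹ * (k' * g * k⁻¹) * k ∈ K := mul_mem (mul_mem (inv_mem hk') h) hk
    simpa [mul_assoc] using h2
  have hSE : Cfsg.IsStronglyEmbedded K := StronglyEmbedded.of_forall_conj hK heven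
    fun x hx hx2 g hg => by
      obtain ⟨k, hk, e⟩ := hcls x hx hx2
      obtain ⟨k', hk', e'⟩ := hcls _ hg ((Basic.orderOf_conj_eq g x).trans hx2)
      rcases e with e | e <;> rcases e' with e' | e'
      · exact hcent hCs hk e hk' e'
      · exact absurd (isConj_iff.2 ⟨k' * g * k⁻¹, by rw [← e, ← e']; group⟩) hne
      · exact absurd (isConj_iff.2 ⟨k' * g * k⁻¹, by rw [← e, ← e']; group⟩ : IsConj t s).symm hne
      · exact hcent hCt hk e hk' e'
  exact hne (StronglyEmbedded.isConj_involutions hSE hs ht)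

end Cfsg.Agent.Lib.Co3End61
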