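import Cfsg.Agent.Lib.Co3End61.Base
import Cfsg.Agent.Lib.Co3End61.PcData

/-!
A Sylow 2-subgroup of the model in normal forms.
-/

set_option autoImplicit false
set_option maxRecDepth 4000

namespace Cfsg.Agent.Lib.Co3End61

open Cfsg Cfsg.Agent.Lib.Co3Model
open Cfsg.Agent.Lib.Computation
open Cfsg.Agent.Lib.Schur.PermMult

/-- The code of a normal form. -/
def cd (i : ℕ) : ℕ := (pcBlocks.getD (Nat.div i 32) []).getD (Nat.mod i 32) 0

/-- Left multiplication of a normal form by a generator. -/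
def tb (k i : ℕ) : ℕ := getW 10 (pcTabs.getD k 0) i

/-- Multiplication of normal forms, up to the bit `k`. -/
def miUpTo (i j k : ℕ) : ℕ :=
  Nat.rec j (fun m acc => bif Nat.beq (Nat.mod (Nat.div i (Nat.pow 2 m)) 2) 1 then tb m acc else acc) k

/-- Multiplication of normal forms. -/
def mi (i j : ℕ) : ℕ := miUpTo i j 10

theorem miUpTo_succ (i j k : ℕ) :
    miUpTo i j (k + 1) = if i / 2 ^ k % 2 = 1 then tb k (miUpTo i j k) else miUpTo i j k := by
  show (bif Nat.beq (i / 2 ^ k % 2) 1 then tb k (miUpTo i j k) else miUpTo i j k) = _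
  by_cases h : i / 2 ^ k % 2 = 1
  · rw [if_pos h, h]; rfl
  · rw [if_neg h]
    cases hb : Nat.beq (i / 2 ^ k % 2) 1
    · rfl
    · exact absurd (Nat.eq_of_beq_eq_true hb) h

/-- All normal forms are codes of members. -/
theorem cd_mem : ((List.range 1024).all fun i => memC hw276 co3_chain (cd i)) = true := by
  decide +kernel

theorem cd_zero : Nat.beq (cd 0) (pone 276 9) = true := by decide +kernel

theorem tb_lt : ((List.range 10).all fun k => (List.range 1024).all fun i =>
    Nat.blt (tb k i) 1024 && (Nat.ble (Nat.pow 2 k) i || Nat.beq (tb k i) (Nat.add (Nat.pow 2 k) i))) =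
      true := by
  decide +kernel

theorem tb_mul : ((List.range 10).all fun k => forceNat (cd (Nat.pow 2 k)) fun g =>
    (List.range 1024).all fun i => Nat.beq (mulP 276 9 g (cd i)) (cd (tb k i))) = true := by
  decide +kernel

theorem ord_ok : ((List.range 1024).all fun i =>
    Nat.blt (getW 10 pcPos i) 1024 && Nat.beq (getW 10 pcOrd (getW 10 pcPos i)) i) = true := by
  decide +kernel

theorem key_mono : ((List.range 1023).all fun k =>
    Nat.blt (pkey 276 9 (cd (getW 10 pcOrd k))) (pkey 276 9 (cd (getW 10 pcOrd (k + 1))))) = true := by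
  decide +kernel

/-- The member with a given normal form. -/
noncomputable def E (i : ℕ) : M :=
  if h : i < 1024 then el hch (List.all_eq_true.1 cd_mem i (List.mem_range.2 h)) else 1

theorem E_has {i : ℕ} (h : i < 1024) : Has hw276 co3_chain (E i) (cd i) := by
  rw [E, dif_pos h]; exact el_has hch _

theorem E_zero : E 0 = 1 := (E_has (by norm_num)).eq hasOne cd_zero

theorem tb_facts {k i : ℕ} (hk : k < 10) (hi : i < 1024) :
    tb k i < 1024 ∧ (i < 2 ^ k → tb k i = 2 ^ k + i) := by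
  have h := List.all_eq_true.1 (List.all_eq_true.1 tb_lt k (List.mem_range.2 hk)) i (List.mem_range.2 hi)
  simp only [Bool.and_eq_true, Bool.or_eq_true, Nat.blt_eq] at h
  exact ⟨h.1, fun hlt => Nat.eq_of_beq_eq_true
    (h.2.resolve_left fun h2 => absurd (Nat.le_of_ble_eq_true h2) (not_le.2 hlt))⟩

theorem E_tb {k i : ℕ} (hk : k < 10) (hi : i < 1024) : E (tb k i) = E (2 ^ k) * E i := by
  have h := List.all_eq_true.1 tb_mul k (List.mem_range.2 hk)
  rw [forceNat_eq] at h
  exact ((((E_has (Nat.pow_lt_pow_right (by norm_num) hk))).mul (E_has hi)).eq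
    (E_has (tb_facts hk hi).1) (List.all_eq_true.1 h i (List.mem_range.2 hi))).symm

theorem miUpTo_spec {i j : ℕ} (hj : j < 1024) : ∀ k ≤ 10,
    miUpTo i j k < 1024 ∧ E (miUpTo i j k) = E (i % 2 ^ k) * E j := by
  intro k
  induction k with
  | zero => intro _; exact ⟨hj, by rw [pow_zero, Nat.mod_one, E_zero, one_mul]; rfl⟩
  | succ k ih =>
    intro hk
    obtain ⟨hlt, he⟩ := ih (by omega)
    have hk' : k < 10 := by omega
    have hsplit : i % 2 ^ (k + 1) = 2 ^ k * (i / 2 ^ k % 2) + i % 2 ^ k := by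
      rw [pow_succ, Nat.mod_mul, add_comm]
    rw [miUpTo_succ]
    by_cases hb : i / 2 ^ k % 2 = 1
    · rw [if_pos hb, hsplit, hb, mul_one, E_tb hk' hlt, he]
      have hm : i % 2 ^ k < 2 ^ k := Nat.mod_lt _ (Nat.two_pow_pos k)
      have hm' : i % 2 ^ k < 1024 := hm.trans_le (Nat.pow_le_pow_right (by norm_num) hk'.le)
      refine ⟨(tb_facts hk' hlt).1, ?_⟩
      rw [← (tb_facts hk' hm').2 hm, E_tb hk' hm', mul_assoc]
    · have h0 : i / 2 ^ k % 2 = 0 := by omega
      rw [if_neg hb, hsplit, h0, mul_zero, zero_add]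
      exact ⟨hlt, he⟩

theorem mi_lt {i j : ℕ} (hj : j < 1024) : mi i j < 1024 := (miUpTo_spec hj 10 le_rfl).1

theorem E_mi {i j : ℕ} (hi : i < 1024) (hj : j < 1024) : E (mi i j) = E i * E j := by
  have h : E (mi i j) = E (i % 2 ^ 10) * E j := (miUpTo_spec hj 10 le_rfl).2
  rwa [Nat.mod_eq_of_lt (show i < 2 ^ 10 by omega)] at h

theorem E_inj {i j : ℕ} (hi : i < 1024) (hj : j < 1024) (h : E i = E j) : i = j := by
  have hp := List.all_eq_true.1 ord_ok i (List.mem_range.2 hi)
  have hq := List.all_eq_true.1 ord_ok j (List.mem_range.2 hj)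
  simp only [Bool.and_eq_true, Nat.blt_eq] at hp hq
  have hm := key_mono
  simp only [List.all_eq_true, List.mem_range, Nat.blt_eq] at hm
  have : getW 10 pcPos i = getW 10 pcPos j := by
    refine Schur.GolayMult.eq_of_strictMono (fun k => pkey 276 9 (cd (getW 10 pcOrd k))) hm hp.1 hq.1 ?_
    show pkey 276 9 (cd (getW 10 pcOrd (getW 10 pcPos i))) =
      pkey 276 9 (cd (getW 10 pcOrd (getW 10 pcPos j)))
    rw [Nat.eq_of_beq_eq_true hp.2, Nat.eq_of_beq_eq_true hq.2]
    exact pkey_eq (E_has hi) (by rw [h]; exact E_has hj)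
  rw [← Nat.eq_of_beq_eq_true hp.2, this, Nat.eq_of_beq_eq_true hq.2]

theorem commute_iff {i j : ℕ} (hi : i < 1024) (hj : j < 1024) :
    E i * E j = E j * E i ↔ mi i j = mi j i := by
  rw [← E_mi hi hj, ← E_mi hj hi]
  exact ⟨E_inj (mi_lt hj) (mi_lt hi), fun h => by rw [h]⟩

/-- The Sylow 2-subgroup. -/
noncomputable def S2 : Subgroup M := Subgroup.closure (Set.range fun i : Fin 1024 => E i)

theorem mem_S2 {g : M} : g ∈ S2 ↔ ∃ i < 1024, g = E i := by
  refine ⟨fun hg => ?_, fun ⟨i, hi, e⟩ => e ▸ Subgroup.subset_closure ⟨⟨i, hi⟩, rfl⟩⟩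
  have hfin : Finite M := (permRep 276 9 hw276).finite_grp hch
  let A : Submonoid M :=
    { carrier := {g | ∃ i < 1024, g = E i}
      one_mem' := ⟨0, by norm_num, E_zero.symm⟩
      mul_mem' := by
        rintro _ _ ⟨i, hi, rfl⟩ ⟨j, hj, rfl⟩
        exact ⟨mi i j, mi_lt hj, (E_mi hi hj).symm⟩ }
  have hle : Submonoid.closure (Set.range fun i : Fin 1024 => E i) ≤ A := by
    rw [Submonoid.closure_le]
    rintro _ ⟨i, rfl⟩
    exact ⟨i, i.2, rfl⟩
  have hg' : g ∈ (Subgroup.closure (Set.range fun i : Fin 1024 => E i)).toSubmonoid := hg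
  rw [Subgroup.closure_toSubmonoid_of_finite] at hg'
  exact hle hg'

theorem E_mem {i : ℕ} (hi : i < 1024) : E i ∈ S2 := mem_S2.2 ⟨i, hi, rfl⟩

/-- The normal forms are in bijection with the subgroup. -/
noncomputable def s2Equiv : Fin 1024 ≃ S2 :=
  Equiv.ofBijective (fun i => ⟨E i, E_mem i.2⟩)
    ⟨fun i j h => Fin.ext (E_inj i.2 j.2 (congrArg Subtype.val h)), fun g => by
      obtain ⟨i, hi, e⟩ := mem_S2.1 g.2
      exact ⟨⟨i, hi⟩, Subtype.ext e.symm⟩⟩

theorem card_S2 : Nat.card S2 = 1024 := by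
  rw [← Nat.card_congr s2Equiv, Nat.card_fin]

theorem E_one : E 1 = τA := (E_has (by norm_num)).eq (el_has hch tCode_mem) (by decide +kernel)

theorem E_u : E 212 = τB := (E_has (by norm_num)).eq (el_has hch uCode_mem) (by decide +kernel)

end Cfsg.Agent.Lib.Co3End61
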