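import Cfsg.Agent.Lib.Co3End61.XCent

/-!
A group containing the model with the same centraliser of an involution of the first class is the
third Conway group.
-/

set_option autoImplicit false

namespace Cfsg.Agent.Lib.Co3End61

open Cfsg Cfsg.Agent.Lib.Involutions

variable {G : Type*} [Group G] [Finite G]

theorem Setup.range_eq_top (D : Setup G) : D.φ.range = ⊤ := by
  refine eq_top_of_centralizers D.φ.range D.orderOf_T D.orderOf_U ⟨τA, rfl⟩ D.not_conj ?_
    D.cent_le D.X_le
  rintro _ ⟨m, rfl⟩ hm
  obtain ⟨c, hc⟩ := D.cases_M ((orderOf_injective D.φ D.inj m).symm.trans hm)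
  refine ⟨D.φ c, ⟨c, rfl⟩, ?_⟩
  rw [← map_inv, ← map_mul, ← map_mul]
  exact hc.imp (congrArg D.φ) (congrArg D.φ)

/-- A group containing the model, with the centraliser of an involution of the first class inside it,
is the third Conway group. -/
theorem isoCo3_of_embedding (φ : M →* G) (hφ : Function.Injective φ)
    (hcard : Nat.card ↥(Subgroup.centralizer ({φ τA} : Set G)) = 2903040)
    (hC : Subgroup.centralizer ({φ τA} : Set G) ≤ φ.range) : Cfsg.Spor.IsoCo3 G :=
  let D : Setup G := ⟨φ, hφ, hcard, hC⟩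
  ⟨((MulEquiv.ofBijective φ ⟨hφ, MonoidHom.range_eq_top.1 D.range_eq_top⟩).symm).trans co3Iso.symm⟩

end Cfsg.Agent.Lib.Co3End61
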