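import Cfsg.Agent.Lib.Co3End61.Cent
import Cfsg.Agent.Lib.Co3End61.Gen
import Mathlib.GroupTheory.Sylow

/-!
Two-subgroups of a group containing the model with the same centraliser of the first involution.
-/

set_option autoImplicit false

namespace Cfsg.Agent.Lib.Co3End61

open Cfsg Cfsg.Agent.Lib.Involutions

/-- A group containing the model and having the same centraliser of the first involution. -/
structure Setup (G : Type*) [Group G] where
  φ : M →* G
  inj : Function.Injective φ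
  card_cent : Nat.card ↥(Subgroup.centralizer ({φ τA} : Set G)) = 2903040
  cent_le : Subgroup.centralizer ({φ τA} : Set G) ≤ φ.range

theorem exists_conj_mem_of_maximal {G : Type*} [Group G] [Finite G] {P : Subgroup G} (hP : IsPGroup 2 P)
    (hmax : ∀ Q : Subgroup G, IsPGroup 2 Q → P ≤ Q → Q = P) {Q : Subgroup G} (hQ : IsPGroup 2 Q) :
    ∃ g : G, ∀ x ∈ Q, g * x * g⁻¹ ∈ P := by
  haveI : Fact (Nat.Prime 2) := ⟨Nat.prime_two⟩
  let P₀ : Sylow 2 G := ⟨P, hP, fun {Q} hQ hle => hmax Q hQ hle⟩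
  obtain ⟨S, hS⟩ := hQ.exists_le_sylow
  obtain ⟨g, hg⟩ := MulAction.exists_smul_eq G S P₀
  refine ⟨g, fun x hx => ?_⟩
  have h := Subgroup.smul_mem_pointwise_smul x (MulAut.conj g) (S : Subgroup G) (hS hx)
  rw [← Sylow.coe_subgroup_smul, hg] at h
  exact h

variable {G : Type*} [Group G]

namespace Setup

variable (D : Setup G)

/-- The image of the first involution. -/
noncomputable def T : G := D.φ τA

/-- The image of the second involution. -/
noncomputable def U : G := D.φ τB

/-- The image of the third involution. -/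
noncomputable def A : G := D.φ αA

theorem orderOf_T : orderOf D.T = 2 := (orderOf_injective D.φ D.inj _).trans orderOf_τA

theorem orderOf_U : orderOf D.U = 2 := (orderOf_injective D.φ D.inj _).trans orderOf_τB

theorem orderOf_A : orderOf D.A = 2 := (orderOf_injective D.φ D.inj _).trans orderOf_αA

theorem card_centM (D : Setup G) : Nat.card ↥(Subgroup.centralizer ({τA} : Set M)) = 2903040 := by
  have h : (Subgroup.centralizer ({τA} : Set M)).map D.φ = Subgroup.centralizer ({D.φ τA} : Set G) := by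
    apply le_antisymm
    · rintro _ ⟨m, hm, rfl⟩
      rw [Subgroup.mem_centralizer_singleton_iff, ← map_mul, ← map_mul,
        Subgroup.mem_centralizer_singleton_iff.1 hm]
    · intro g hg
      obtain ⟨m, rfl⟩ := D.cent_le hg
      rw [Subgroup.mem_centralizer_singleton_iff, ← map_mul, ← map_mul] at hg
      exact ⟨m, Subgroup.mem_centralizer_singleton_iff.2 (D.inj hg), rfl⟩
  rw [← Subgroup.card_map_of_injective D.inj, h, D.card_cent]

theorem not_conj : ¬ IsConj D.T D.U := by
  intro h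
  obtain ⟨g, hg⟩ := isConj_iff.1 h.symm
  obtain ⟨η, hc, ho⟩ := exists_eleven
  have hmem : g * D.φ η * g⁻¹ ∈ Subgroup.centralizer ({D.φ τA} : Set G) := by
    rw [Subgroup.mem_centralizer_singleton_iff]
    show g * D.φ η * g⁻¹ * D.T = D.T * (g * D.φ η * g⁻¹)
    have e : D.φ η * D.U = D.U * D.φ η := by rw [U, ← map_mul, hc, map_mul]
    rw [← hg]
    calc g * D.φ η * g⁻¹ * (g * D.U * g⁻¹) = g * (D.φ η * D.U) * g⁻¹ := by group
      _ = g * (D.U * D.φ η) * g⁻¹ := by rw [e]
      _ = _ := by group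
  have := Subgroup.orderOf_dvd_natCard _ hmem
  rw [Basic.orderOf_conj_eq, orderOf_injective D.φ D.inj, ho, D.card_cent] at this
  norm_num at this

theorem not_conj_M (D : Setup G) : ¬ IsConj τA τB := fun h => D.not_conj (D.φ.map_isConj h)

variable [Finite G]

theorem isPGroup_S2 : IsPGroup 2 S2 := IsPGroup.of_card (n := 10) (by rw [card_S2]; norm_num)

/-- The Sylow subgroup of the model stays maximal. -/
theorem maximal_S2 {Q : Subgroup G} (hQ : IsPGroup 2 Q) (hle : S2.map D.φ ≤ Q) : Q = S2.map D.φ := by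
  by_contra hne
  haveI : Fact (Nat.Prime 2) := ⟨Nat.prime_two⟩
  haveI : Group.IsNilpotent Q := hQ.isNilpotent
  have hlt := StronglyEmbedded.lt_inf_normalizer (lt_of_le_of_ne hle (Ne.symm hne))
  set W := Q ⊓ Subgroup.normalizer ((S2.map D.φ : Subgroup G) : Set G) with hW
  have hTS : D.T ∈ S2.map D.φ := ⟨τA, E_one ▸ E_mem (by norm_num), rfl⟩
  have hWT : W ≤ Subgroup.centralizer ({D.φ τA} : Set G) := by
    intro g hg
    have hgN := (Subgroup.mem_inf.1 hg).2
    obtain ⟨c, hc, hce⟩ := (Subgroup.mem_normalizer_iff.1 hgN D.T).1 hTS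
    have hcen : ∀ y ∈ S2, y * c = c * y := by
      intro y hy
      apply D.inj
      rw [map_mul, map_mul, hce]
      have hy' := (Subgroup.mem_normalizer_iff.1 ((Subgroup.normalizer _).inv_mem hgN) (D.φ y)).1
        ⟨y, hy, rfl⟩
      obtain ⟨y', hy', hye⟩ := hy'
      have hcomm : D.φ y' * D.T = D.T * D.φ y' := by
        rw [T, ← map_mul, ← map_mul]
        obtain ⟨i, hi, rfl⟩ := mem_S2.1 hy'
        congr 1
        rw [← E_one, commute_iff hi (by norm_num)]
        exact Nat.eq_of_beq_eq_true (List.all_eq_true.1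
          (show ((List.range 1024).all fun i => Nat.beq (mi i 1) (mi 1 i)) = true by decide +kernel) i
          (List.mem_range.2 hi))
      rw [hye] at hcomm
      calc D.φ y * (g * D.T * g⁻¹) = g * ((g⁻¹ * D.φ y * g⁻¹⁻¹) * D.T) * g⁻¹ := by group
        _ = g * (D.T * (g⁻¹ * D.φ y * g⁻¹⁻¹)) * g⁻¹ := by rw [hcomm]
        _ = g * D.T * g⁻¹ * D.φ y := by group
    rcases center_S2 hc hcen with rfl | rfl
    · rw [map_one] at hce
      have h1 : D.T = 1 := conj_eq_one_iff.1 hce.symm
      have := D.orderOf_T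
      rw [h1, orderOf_one] at this
      norm_num at this
    · rw [Subgroup.mem_centralizer_singleton_iff]
      exact mul_inv_eq_iff_eq_mul.1 hce.symm
  obtain ⟨k, hk⟩ := IsPGroup.iff_card.1 (hQ.to_le (inf_le_left : W ≤ Q))
  have hd : 2 ^ k ∣ 2903040 := hk ▸ D.card_cent ▸ Subgroup.card_dvd_of_le hWT
  have hlt' : 1024 < Nat.card W := by
    have e : Nat.card ↥(S2.map D.φ) = 1024 :=
      (Subgroup.card_map_of_injective D.inj).trans card_S2
    rw [← e]
    exact lt_of_le_of_ne (Subgroup.card_le_of_le hlt.le) fun h =>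
      hlt.ne (Subgroup.eq_of_le_of_card_ge hlt.le h.symm.le)
  rw [hk, show (1024 : ℕ) = 2 ^ 10 from rfl, Nat.pow_lt_pow_iff_right (by norm_num)] at hlt'
  exact absurd ((pow_dvd_pow 2 (show 11 ≤ k by omega)).trans hd) (by norm_num)

theorem exists_conj_S2 {Q : Subgroup G} (hQ : IsPGroup 2 Q) :
    ∃ g : G, ∀ x ∈ Q, g * x * g⁻¹ ∈ S2.map D.φ :=
  exists_conj_mem_of_maximal (isPGroup_S2.map D.φ) (fun _ hQ hle => D.maximal_S2 hQ hle) hQ

/-- Each involution of the model is conjugate there to one of the two. -/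
theorem cases_M (D : Setup G) {m : M} (hm : orderOf m = 2) :
    ∃ c : M, c * m * c⁻¹ = τA ∨ c * m * c⁻¹ = τB := by
  have hmax : ∀ Q : Subgroup M, IsPGroup 2 Q → S2 ≤ Q → Q = S2 := fun Q hQ hle =>
    Subgroup.map_injective D.inj (D.maximal_S2 (hQ.map D.φ) (Subgroup.map_mono hle))
  obtain ⟨g, hg⟩ := exists_conj_mem_of_maximal isPGroup_S2 hmax
    (IsPGroup.of_card (G := ↥(Subgroup.zpowers m)) (n := 1) (by rw [Nat.card_zpowers, hm, pow_one]))
  obtain ⟨c, hc⟩ := inv_cases (hg m (Subgroup.mem_zpowers m)) ((Basic.orderOf_conj_eq g m).trans hm)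
  refine ⟨c * g, ?_⟩
  have e : c * g * m * (c * g)⁻¹ = c * (g * m * g⁻¹) * c⁻¹ := by group
  rwa [e]

theorem isConj_τB_of_isConj (D : Setup G) {m : M} (h : IsConj (D.φ m) D.U) : IsConj m τB := by
  obtain ⟨g, hg⟩ := isConj_iff.1 h
  have hm : orderOf m = 2 := by
    rw [← orderOf_injective D.φ D.inj, ← Basic.orderOf_conj_eq g, hg, D.orderOf_U]
  obtain ⟨c, hc | hc⟩ := D.cases_M hm
  · exact absurd ((D.φ.map_isConj (isConj_iff.2 ⟨c, hc⟩ : IsConj m τA)).symm.trans h) D.not_conj
  · exact isConj_iff.2 ⟨c, hc⟩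

/-- A 2-subgroup centralising the second involution has order at most 128. -/
theorem card_le_128 {Q : Subgroup G} (hQ : IsPGroup 2 Q) (hU : ∀ x ∈ Q, x * D.U = D.U * x) :
    Nat.card Q ≤ 128 := by
  haveI : Fact (Nat.Prime 2) := ⟨Nat.prime_two⟩
  have hZ : IsPGroup 2 ↥(Subgroup.zpowers D.U) :=
    IsPGroup.of_card (n := 1) (by rw [Nat.card_zpowers, D.orderOf_U, pow_one])
  have hQ' : IsPGroup 2 ↥(Q ⊔ Subgroup.zpowers D.U) := by
    refine hQ.to_sup_of_normal_right' hZ fun x hx => ?_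
    refine Subgroup.mem_normalizer_fintype fun n hn => ?_
    obtain ⟨k, rfl⟩ := Subgroup.mem_zpowers_iff.1 hn
    have hc : Commute x (D.U ^ k) := (show Commute x D.U from hU x hx).zpow_right k
    rw [hc.eq, mul_inv_cancel_right]
    exact hn
  obtain ⟨g, hg⟩ := D.exists_conj_S2 hQ'
  obtain ⟨x, hx, hxe⟩ := hg _ (le_sup_right (a := Q) (Subgroup.mem_zpowers D.U))
  have hxB : IsConj x τB := D.isConj_τB_of_isConj (by rw [hxe]; exact (isConj_iff.2 ⟨g, rfl⟩ : IsConj D.U _).symm)
  have hle : Q.map (MulAut.conj g).toMonoidHom ≤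
      (Subgroup.centralizer ({x} : Set M) ⊓ S2).map D.φ := by
    rintro _ ⟨q, hq, rfl⟩
    obtain ⟨y, hy, hye⟩ := hg q (le_sup_left (b := Subgroup.zpowers D.U) hq)
    refine ⟨y, Subgroup.mem_inf.2 ⟨Subgroup.mem_centralizer_singleton_iff.2 (D.inj ?_), hy⟩, hye⟩
    rw [map_mul, map_mul, hxe, hye]
    calc g * q * g⁻¹ * (g * D.U * g⁻¹) = g * (q * D.U) * g⁻¹ := by group
      _ = g * (D.U * q) * g⁻¹ := by rw [hU q hq]
      _ = _ := by group
  have h := Subgroup.card_le_of_le hle
  rw [Subgroup.card_map_of_injective (MulEquiv.injective _), Subgroup.card_map_of_injective D.inj] at h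
  exact h.trans (card_cent_le hx D.not_conj_M hxB)

end Setup

end Cfsg.Agent.Lib.Co3End61
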