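import Cfsg.Agent.Lib.Co3End61.YCent

/-!
The centraliser of the second involution lies in the model.
-/

set_option autoImplicit false

namespace Cfsg.Agent.Lib.Co3End61

open Cfsg Cfsg.Agent.Lib.Involutions

variable {G : Type*} [Group G]

namespace Setup

variable (D : Setup G) [Finite G]

/-- The centraliser of the second involution. -/
noncomputable def X : Subgroup G := Subgroup.centralizer ({D.U} : Set G)

omit [Finite G] in
theorem mem_X {g : G} : g ∈ D.X ↔ g * D.U = D.U * g := Subgroup.mem_centralizer_singleton_iff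

/-- The Sylow subgroup of the centraliser. -/
noncomputable def P2 : Subgroup D.X := (S2u.map D.φ).subgroupOf D.X

omit [Finite G] in
theorem S2u_map_le : S2u.map D.φ ≤ D.X := by
  rintro _ ⟨m, hm, rfl⟩
  rw [D.mem_X, U, ← map_mul, ← map_mul,
    Subgroup.mem_centralizer_singleton_iff.1 (Subgroup.mem_inf.1 hm).1]

omit [Finite G] in
theorem card_P2 : Nat.card D.P2 = 128 := by
  rw [P2, Nat.card_congr (Subgroup.subgroupOfEquivOfLe D.S2u_map_le).toEquiv,
    Subgroup.card_map_of_injective D.inj, card_S2u]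

theorem exists_conj_P2 {Q : Subgroup D.X} (hQ : IsPGroup 2 Q) :
    ∃ g : D.X, ∀ x ∈ Q, g * x * g⁻¹ ∈ D.P2 := by
  refine exists_conj_mem_of_maximal (IsPGroup.of_card (n := 7) (by rw [D.card_P2]; norm_num)) ?_ hQ
  intro Q' hQ' hle
  refine (Subgroup.eq_of_le_of_card_ge hle ?_).symm
  have hc : Nat.card ↥(Q'.map D.X.subtype) = Nat.card Q' :=
    Subgroup.card_map_of_injective D.X.subtype_injective
  rw [D.card_P2, ← hc]
  refine D.card_le_128 (hQ'.map _) ?_
  rintro _ ⟨q, -, rfl⟩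
  exact D.mem_X.1 q.2

/-- Classes modulo the second involution in its centraliser in the model. -/
theorem cases_XM (D : Setup G) {m : M} (hm : m * τB = τB * m) (hsq : m * m = 1 ∨ m * m = τB) :
    m = 1 ∨ m = τB ∨ ∃ c : M, c * τB = τB * c ∧
      (c * m * c⁻¹ = τA ∨ c * m * c⁻¹ = τA * τB ∨ c * m * c⁻¹ = αA ∨ c * m * c⁻¹ = αA * τB) := by
  haveI : Fact (Nat.Prime 2) := ⟨Nat.prime_two⟩
  let XM : Subgroup M := Subgroup.centralizer ({τB} : Set M)
  have hS : S2u ≤ XM := inf_le_left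
  have hcard : Nat.card (S2u.subgroupOf XM) = 128 := by
    rw [Nat.card_congr (Subgroup.subgroupOfEquivOfLe hS).toEquiv, card_S2u]
  have hp : IsPGroup 2 (Subgroup.zpowers (⟨m, Subgroup.mem_centralizer_singleton_iff.2 hm⟩ : XM)) := by
    refine IsPGroup.of_card (n := (orderOf m).log2) ?_
    rw [Nat.card_zpowers, Subgroup.orderOf_mk]
    have h4 : m ^ 4 = 1 := by
      rw [show (4 : ℕ) = 2 * 2 from rfl, pow_mul, pow_two m]
      rcases hsq with h | h <;> rw [h]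
      · exact one_pow _
      · rw [← orderOf_τB, pow_orderOf_eq_one]
    obtain ⟨k, hk, he⟩ := (Nat.dvd_prime_pow Nat.prime_two).1
      (show orderOf m ∣ 2 ^ 2 from orderOf_dvd_of_pow_eq_one h4)
    rw [he, Nat.log2_two_pow]
  obtain ⟨⟨g, hgm⟩, hg⟩ := exists_conj_mem_of_maximal
    (IsPGroup.of_card (n := 7) (by rw [hcard]; norm_num)) (fun Q' hQ' hle => by
      refine (Subgroup.eq_of_le_of_card_ge hle ?_).symm
      have hc : Nat.card ↥((Q'.map XM.subtype).map D.φ) = Nat.card Q' :=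
        (Subgroup.card_map_of_injective D.inj).trans (Subgroup.card_map_of_injective XM.subtype_injective)
      rw [hcard, ← hc]
      refine D.card_le_128 ((hQ'.map _).map _) ?_
      rintro _ ⟨_, ⟨q, -, rfl⟩, rfl⟩
      show D.φ q * D.φ τB = D.φ τB * D.φ q
      rw [← map_mul, ← map_mul, Subgroup.mem_centralizer_singleton_iff.1 q.2]) hp
  have hgu : g * τB = τB * g := Subgroup.mem_centralizer_singleton_iff.1 hgm
  have hgS : g * m * g⁻¹ ∈ S2u := hg _ (Subgroup.mem_zpowers _)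
  have hcu : g * τB * g⁻¹ = τB := mul_inv_eq_iff_eq_mul.2 hgu
  have hsq' : g * m * g⁻¹ * (g * m * g⁻¹) = 1 ∨ g * m * g⁻¹ * (g * m * g⁻¹) = τB := by
    have e : g * m * g⁻¹ * (g * m * g⁻¹) = g * (m * m) * g⁻¹ := by group
    rw [e]
    rcases hsq with h | h <;> rw [h]
    · exact Or.inl (by group)
    · exact Or.inr hcu
  rcases su_cases hgS hsq' with h | h | ⟨c, hc, h⟩
  · exact Or.inl (conj_eq_one_iff.1 h)
  · exact Or.inr (Or.inl (mul_left_cancel (mul_right_cancel (h.trans hcu.symm))))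
  · refine Or.inr (Or.inr ⟨c * g, ?_, ?_⟩)
    · rw [mul_assoc, hgu, ← mul_assoc, hc, mul_assoc]
    · have e : c * g * m * (c * g)⁻¹ = c * (g * m * g⁻¹) * c⁻¹ := by group
      rwa [e]

omit [Finite G] in
theorem conj_sq_stab {g : G} (hu : g * D.U = D.U * g) (h : g * D.A * g⁻¹ = D.A * D.U) :
    g ^ 2 * D.A * (g ^ 2)⁻¹ = D.A := by
  have hU2 : D.U * D.U = 1 := by rw [← pow_two, ← D.orderOf_U, pow_orderOf_eq_one]
  calc g ^ 2 * D.A * (g ^ 2)⁻¹ = g * (g * D.A * g⁻¹) * g⁻¹ := by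
        rw [pow_two]; group
    _ = g * (D.A * D.U) * g⁻¹ := by rw [h]
    _ = g * D.A * g⁻¹ * (g * D.U * g⁻¹) := by group
    _ = D.A * D.U * D.U := by rw [h, mul_inv_eq_iff_eq_mul.2 hu]
    _ = D.A := by rw [mul_assoc, hU2, mul_one]

theorem not_swap {g : G} (hu : g * D.U = D.U * g) : g * D.A * g⁻¹ ≠ D.A * D.U := by
  intro hsw
  haveI : Fact (Nat.Prime 2) := ⟨Nat.prime_two⟩
  have hodd : ∀ j : ℕ, g ^ (2 * j + 1) * D.A * (g ^ (2 * j + 1))⁻¹ = D.A * D.U := by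
    intro j
    induction j with
    | zero => simpa using hsw
    | succ j ih =>
      calc g ^ (2 * (j + 1) + 1) * D.A * (g ^ (2 * (j + 1) + 1))⁻¹
          = g ^ (2 * j + 1) * (g ^ 2 * D.A * (g ^ 2)⁻¹) * (g ^ (2 * j + 1))⁻¹ := by group
        _ = D.A * D.U := by rw [D.conj_sq_stab hu hsw, ih]
  obtain ⟨k, m, hm, hkm⟩ := Nat.exists_eq_two_pow_mul_odd (orderOf_pos g).ne'
  obtain ⟨j, rfl⟩ := hm
  have hUA : D.A * D.U = D.U * D.A := by rw [U, A, ← map_mul, ← map_mul, comm_au]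
  let Uel : D.X := ⟨D.U, D.mem_X.2 rfl⟩
  let Ael : D.X := ⟨D.A, D.mem_X.2 hUA⟩
  let gel : D.X := ⟨g, D.mem_X.2 hu⟩ ^ (2 * j + 1)
  have hgel : gel * Ael * gel⁻¹ = Ael * Uel := Subtype.ext (by
    show g ^ (2 * j + 1) * D.A * (g ^ (2 * j + 1))⁻¹ = _
    exact hodd j)
  have hpz : ∀ x : D.X, (∃ n, x ^ 2 ^ n = 1) → IsPGroup 2 (Subgroup.zpowers x) := by
    rintro x ⟨n, hn⟩
    obtain ⟨i, -, hi⟩ := (Nat.dvd_prime_pow Nat.prime_two).1 (orderOf_dvd_of_pow_eq_one hn)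
    exact IsPGroup.of_card (n := i) (by rw [Nat.card_zpowers, hi])
  have hUc : ∀ x : D.X, x * Uel * x⁻¹ = Uel := fun x =>
    Subtype.ext (mul_inv_eq_iff_eq_mul.2 (D.mem_X.1 x.2))
  set V : Subgroup D.X := Subgroup.zpowers Ael ⊔ Subgroup.zpowers Uel with hV
  have hVp : IsPGroup 2 V := by
    refine (hpz Ael ⟨1, Subtype.ext ?_⟩).to_sup_of_normal_right' (hpz Uel ⟨1, Subtype.ext ?_⟩) ?_
    · show D.A ^ 2 ^ 1 = 1
      rw [pow_one, ← D.orderOf_A, pow_orderOf_eq_one]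
    · show D.U ^ 2 ^ 1 = 1
      rw [pow_one, ← D.orderOf_U, pow_orderOf_eq_one]
    · rw [Subgroup.zpowers_le, Subgroup.mem_normalizer_iff_map_conj_eq, MonoidHom.map_zpowers]
      exact congrArg Subgroup.zpowers (hUc Ael)
  have hgV : gel ∈ Subgroup.normalizer (V : Set D.X) := by
    rw [Subgroup.mem_normalizer_iff_map_conj_eq, hV, Subgroup.map_sup, MonoidHom.map_zpowers,
      MonoidHom.map_zpowers]
    show Subgroup.zpowers (gel * Ael * gel⁻¹) ⊔ Subgroup.zpowers (gel * Uel * gel⁻¹) = _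
    rw [hgel, hUc]
    refine le_antisymm (sup_le ?_ le_sup_right) (sup_le ?_ le_sup_right)
    · rw [Subgroup.zpowers_le]
      exact mul_mem (Subgroup.mem_sup_left (Subgroup.mem_zpowers _))
        (Subgroup.mem_sup_right (Subgroup.mem_zpowers _))
    · rw [Subgroup.zpowers_le]
      have h2 : Ael = Ael * Uel * Uel⁻¹ := (mul_inv_cancel_right _ _).symm
      rw [h2]
      exact mul_mem (Subgroup.mem_sup_left (by rw [← h2]; exact Subgroup.mem_zpowers _))
        (inv_mem (Subgroup.mem_sup_right (Subgroup.mem_zpowers _)))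
  have hQ : IsPGroup 2 ↥(Subgroup.zpowers gel ⊔ V) := by
    refine (hpz gel ⟨k, Subtype.ext ?_⟩).to_sup_of_normal_right' hVp ((Subgroup.zpowers_le).2 hgV)
    show (g ^ (2 * j + 1)) ^ 2 ^ k = 1
    rw [← pow_mul, mul_comm, ← hkm, pow_orderOf_eq_one]
  obtain ⟨x, hx⟩ := D.exists_conj_P2 hQ
  obtain ⟨p, hp, hpe⟩ := hx gel (Subgroup.mem_sup_left (Subgroup.mem_zpowers _))
  obtain ⟨q, hq, hqe⟩ := hx Ael (Subgroup.mem_sup_right (Subgroup.mem_sup_left (Subgroup.mem_zpowers _)))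
  have hqu : D.φ (q * τB) = ((x * (Ael * Uel) * x⁻¹ : D.X) : G) := by
    rw [map_mul, hqe]
    show ((x * Ael * x⁻¹ : D.X) : G) * (Uel : G) = _
    rw [← Subgroup.coe_mul]
    congr 1
    conv_lhs => rw [← hUc x]
    group
  have h1 : IsConj q τB := D.isConj_τB_of_isConj
    ((isConj_iff.2 ⟨(x : G)⁻¹, by rw [hqe]; show (x : G)⁻¹ * ((x : G) * D.A * (x : G)⁻¹) * (x : G)⁻¹⁻¹ = D.A; group⟩ :
      IsConj (D.φ q) D.A).trans (D.φ.map_isConj isConj_a))
  have h2 : IsConj (q * τB) τB := D.isConj_τB_of_isConj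
    ((isConj_iff.2 ⟨(x : G)⁻¹, by
        rw [hqu]
        show (x : G)⁻¹ * ((x : G) * (D.A * D.U) * (x : G)⁻¹) * (x : G)⁻¹⁻¹ = D.A * D.U
        group⟩ : IsConj (D.φ (q * τB)) (D.A * D.U)).trans
      (by rw [A, U, ← map_mul]; exact D.φ.map_isConj isConj_au))
  refine no_swap hp hq D.not_conj_M h1 h2 (D.inj ?_)
  rw [hqu, map_mul, map_mul, map_inv, hpe, hqe]
  show ((x * gel * x⁻¹ : D.X) : G) * ((x * Ael * x⁻¹ : D.X) : G) * ((x * gel * x⁻¹ : D.X) : G)⁻¹ = _
  rw [← Subgroup.coe_inv, ← Subgroup.coe_mul, ← Subgroup.coe_mul, ← hgel]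
  congr 1
  group

theorem X_le : D.X ≤ D.φ.range := by
  classical
  have hUA : D.A * D.U = D.U * D.A := by rw [U, A, ← map_mul, ← map_mul, comm_au]
  have hTU : D.T * D.U = D.U * D.T := by rw [T, U, ← map_mul, ← map_mul, comm_tu]
  let Uel : D.X := ⟨D.U, D.mem_X.2 rfl⟩
  let Z : Subgroup D.X := Subgroup.zpowers Uel
  haveI hZn : Z.Normal := ⟨fun z hz y => by
    obtain ⟨n, rfl⟩ := Subgroup.mem_zpowers_iff.1 hz
    have hc : Commute y (Uel ^ n) := (show Commute y Uel from Subtype.ext (D.mem_X.1 y.2)).zpow_right n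
    rw [hc.eq, mul_inv_cancel_right]
    exact hz⟩
  have hUel2 : orderOf Uel = 2 := (orderOf_injective D.X.subtype D.X.subtype_injective Uel).symm.trans D.orderOf_U
  have hZmem : ∀ y : D.X, y ∈ Z ↔ (y : G) = 1 ∨ (y : G) = D.U := by
    intro y
    constructor
    · intro hy
      rw [mem_zpowers_iff_mem_range_orderOf, hUel2] at hy
      simp only [Finset.mem_image, Finset.mem_range] at hy
      obtain ⟨n, hn, rfl⟩ := hy
      interval_cases n
      · exact Or.inl (by rw [pow_zero]; rfl)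
      · exact Or.inr (by rw [pow_one])
    · rintro (h | h)
      · rw [show y = 1 from Subtype.ext h]; exact one_mem _
      · rw [show y = Uel from Subtype.ext h]; exact Subgroup.mem_zpowers _
  let π := QuotientGroup.mk' Z
  have hπ1 : ∀ y : D.X, π y = 1 ↔ y ∈ Z := fun y => QuotientGroup.eq_one_iff y
  have hπe : ∀ y z : D.X, π y = π z ↔ (y : G) = z ∨ (y : G) = z * D.U := by
    intro y z
    rw [← inv_mul_eq_one, ← map_inv, ← map_mul, hπ1, hZmem, Subgroup.coe_mul, Subgroup.coe_inv,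
      inv_mul_eq_one, inv_mul_eq_iff_eq_mul]
    constructor
    · rintro (h | h)
      · exact Or.inl h
      · refine Or.inr ?_
        rw [h, mul_assoc, show D.U * D.U = 1 by rw [← pow_two, ← D.orderOf_U, pow_orderOf_eq_one], mul_one]
    · rintro (h | h)
      · exact Or.inl h
      · refine Or.inr ?_
        rw [h, mul_assoc, show D.U * D.U = 1 by rw [← pow_two, ← D.orderOf_U, pow_orderOf_eq_one], mul_one]
  let Tel : D.X := ⟨D.T, D.mem_X.2 hTU⟩
  let Ael : D.X := ⟨D.A, D.mem_X.2 hUA⟩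
  set K : Subgroup (D.X ⧸ Z) := (D.φ.range.subgroupOf D.X).map π with hKdef
  suffices hK : K = ⊤ by
    intro g hg
    obtain ⟨k, hk, he⟩ := (hK ▸ Subgroup.mem_top (π ⟨g, hg⟩) : π ⟨g, hg⟩ ∈ K)
    rcases (hπe ⟨g, hg⟩ k).1 he.symm with h | h <;> rw [show g = _ from h]
    · exact hk
    · exact mul_mem hk ⟨τB, rfl⟩
  have hne1 : ∀ y : D.X, orderOf (y : G) = 2 → (y : G) ≠ D.U → orderOf (π y) = 2 := by
    intro y hy hyU
    obtain ⟨hsq, hne⟩ := (orderOf_eq_prime_iff (p := 2)).1 hy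
    refine orderOf_eq_prime ?_ fun h => ((hZmem y).1 ((hπ1 y).1 h)).elim hne hyU
    rw [← map_pow, show y ^ 2 = 1 from Subtype.ext (by rw [SubgroupClass.coe_pow]; exact hsq), map_one]
  have hTne : D.T ≠ D.U := fun h => D.not_conj (h ▸ IsConj.refl _)
  have hAne : D.A ≠ D.U := fun h => by
    have := E_inj (i := 193) (j := 212) (by norm_num) (by norm_num)
      (E_a.trans ((D.inj h : αA = τB).trans E_u.symm))
    omega
  have hAU : IsConj D.A D.U := D.φ.map_isConj isConj_a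
  have hAUU : IsConj (D.A * D.U) D.U := by rw [A, U, ← map_mul]; exact D.φ.map_isConj isConj_au
  have hTUU : IsConj (D.T * D.U) D.U := by rw [T, U, ← map_mul]; exact D.φ.map_isConj isConj_tu
  refine eq_top_of_centralizers K (hne1 Tel D.orderOf_T hTne) (hne1 Ael D.orderOf_A hAne)
    ⟨Tel, ⟨τA, rfl⟩, rfl⟩ ?_ ?_ ?_ ?_
  · intro h
    obtain ⟨w, hw⟩ := isConj_iff.1 h
    obtain ⟨g, rfl⟩ := QuotientGroup.mk'_surjective Z w
    rw [← map_inv, ← map_mul, ← map_mul, hπe] at hw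
    rcases hw with hw | hw
    · exact D.not_conj ((isConj_iff.2 ⟨(g : G), hw⟩ : IsConj D.T D.A).trans hAU)
    · exact D.not_conj ((isConj_iff.2 ⟨(g : G), hw⟩ : IsConj D.T (D.A * D.U)).trans hAUU)
  · rintro _ ⟨y, ⟨m, hm⟩, rfl⟩ hy2
    obtain ⟨hsq, hne⟩ := (orderOf_eq_prime_iff (p := 2)).1 hy2
    have hmu : m * τB = τB * m := D.inj (by rw [map_mul, map_mul]; exact hm ▸ D.mem_X.1 y.2)
    have hsq' : m * m = 1 ∨ m * m = τB := by
      rw [← map_pow, hπ1, hZmem, SubgroupClass.coe_pow, pow_two] at hsq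
      rw [show (y : G) = D.φ m from hm.symm, ← map_mul] at hsq
      exact hsq.imp (fun h => D.inj (h.trans (map_one D.φ).symm)) (fun h => D.inj h)
    rcases D.cases_XM hmu hsq' with rfl | rfl | ⟨c, hc, hcm⟩
    · exact absurd ((hπ1 y).2 ((hZmem y).2 (Or.inl (hm.symm.trans (map_one D.φ))))) hne
    · exact absurd ((hπ1 y).2 ((hZmem y).2 (Or.inr hm.symm))) hne
    have hcX : D.φ c ∈ D.X := D.mem_X.2 (by rw [U, ← map_mul, hc, map_mul])
    refine ⟨π ⟨D.φ c, hcX⟩, ⟨_, ⟨c, rfl⟩, rfl⟩, ?_⟩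
    rw [← map_inv, ← map_mul, ← map_mul, hπe, hπe]
    have e : D.φ (c * m * c⁻¹) = D.φ c * (y : G) * (D.φ c)⁻¹ := by rw [map_mul, map_mul, map_inv, hm]; rfl
    show (D.φ c * (y : G) * (D.φ c)⁻¹ = D.T ∨ D.φ c * (y : G) * (D.φ c)⁻¹ = D.T * D.U) ∨
      (D.φ c * (y : G) * (D.φ c)⁻¹ = D.A ∨ D.φ c * (y : G) * (D.φ c)⁻¹ = D.A * D.U)
    rw [← e]
    rcases hcm with h | h | h | h <;> rw [h]
    · exact Or.inl (Or.inl rfl)
    · exact Or.inl (Or.inr (map_mul _ _ _))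
    · exact Or.inr (Or.inl rfl)
    · exact Or.inr (Or.inr (map_mul _ _ _))
  · intro w hw
    obtain ⟨g, rfl⟩ := QuotientGroup.mk'_surjective Z w
    rw [Subgroup.mem_centralizer_singleton_iff, ← mul_inv_eq_iff_eq_mul, ← map_inv, ← map_mul,
      ← map_mul, hπe] at hw
    rcases hw with hw | hw
    · exact ⟨g, D.cent_le (Subgroup.mem_centralizer_singleton_iff.2 (mul_inv_eq_iff_eq_mul.1 hw)), rfl⟩
    · exact absurd ((isConj_iff.2 ⟨(g : G), hw⟩ : IsConj D.T (D.T * D.U)).trans hTUU) D.not_conj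
  · intro w hw
    obtain ⟨g, rfl⟩ := QuotientGroup.mk'_surjective Z w
    rw [Subgroup.mem_centralizer_singleton_iff, ← mul_inv_eq_iff_eq_mul, ← map_inv, ← map_mul,
      ← map_mul, hπe] at hw
    rcases hw with hw | hw
    · exact ⟨g, D.Y_le (D.mem_Y.2 ⟨D.mem_X.1 g.2, mul_inv_eq_iff_eq_mul.1 hw⟩), rfl⟩
    · exact absurd hw (D.not_swap (D.mem_X.1 g.2))

end Setup

end Cfsg.Agent.Lib.Co3End61
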