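import Cfsg.Agent.Lib.Co3End61.Two
import Cfsg.Agent.Lib.DihedralCentralizer.Classify

/-!
The common centraliser of the second and the third involution lies in the model.
-/

set_option autoImplicit false

namespace Cfsg.Agent.Lib.Co3End61

open Cfsg Cfsg.Agent.Lib.Involutions

theorem v_table : ((vIdx.all fun i => Nat.blt i 1024 && Nat.beq (mi i i) 0 &&
    Nat.beq (mi i 212) (mi 212 i) && Nat.beq (mi i 193) (mi 193 i) && (Nat.beq i 0 || tagged false (mi 1 i))) &&
    vIdx.all fun i => vIdx.all fun j => vIdx.any fun k => Nat.beq (mi i j) k) = true := by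
  decide +kernel

theorem v_facts {i : ℕ} (hi : i ∈ vIdx) :
    i < 1024 ∧ mi i i = 0 ∧ mi i 212 = mi 212 i ∧ mi i 193 = mi 193 i ∧ (i = 0 ∨ tagged false (mi 1 i) = true) := by
  have h := List.all_eq_true.1 (Bool.and_eq_true_iff.1 v_table).1 i hi
  simp only [Bool.and_eq_true, Bool.or_eq_true, Nat.blt_eq] at h
  exact ⟨h.1.1.1.1, Nat.eq_of_beq_eq_true h.1.1.1.2, Nat.eq_of_beq_eq_true h.1.1.2,
    Nat.eq_of_beq_eq_true h.1.2, h.2.imp_left Nat.eq_of_beq_eq_true⟩

/-- The four-group of the second and the third involution. -/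
noncomputable def VM : Subgroup M where
  carrier := {x | ∃ i ∈ vIdx, x = E i}
  one_mem' := ⟨0, by simp [vIdx], E_zero.symm⟩
  mul_mem' := by
    rintro _ _ ⟨i, hi, rfl⟩ ⟨j, hj, rfl⟩
    obtain ⟨k, hk, he⟩ := List.any_eq_true.1
      (List.all_eq_true.1 (List.all_eq_true.1 (Bool.and_eq_true_iff.1 v_table).2 i hi) j hj)
    exact ⟨k, hk, by rw [← Nat.eq_of_beq_eq_true he, E_mi (v_facts hi).1 (v_facts hj).1]⟩
  inv_mem' := by
    rintro _ ⟨i, hi, rfl⟩
    refine ⟨i, hi, inv_eq_of_mul_eq_one_left ?_⟩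
    rw [← E_mi (v_facts hi).1 (v_facts hi).1, (v_facts hi).2.1, E_zero]

theorem mem_VM {x : M} : x ∈ VM ↔ ∃ i ∈ vIdx, x = E i := Iff.rfl

/-- The subgroup of a product with all of an odd part has odd elements only. -/
theorem mem_of_sup_eq_top {X : Type*} [Group X] [Finite X] {C N : Subgroup X} [N.Normal]
    (hsup : C ⊔ N = ⊤) (hC : Nat.card C = 8) {w : X} (hw : Odd (orderOf w)) : w ∈ N := by
  obtain ⟨c, hc, o, ho, rfl⟩ :=
    Subgroup.mem_sup_of_normal_right.1 (hsup ▸ Subgroup.mem_top w : w ∈ C ⊔ N)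
  have e : (QuotientGroup.mk' N) (c * o) = (QuotientGroup.mk' N) c := by
    rw [map_mul, (QuotientGroup.eq_one_iff (N := N) o).2 ho |> (show ((QuotientGroup.mk' N) o = 1) from ·),
      mul_one]
  have h1 : orderOf ((QuotientGroup.mk' N) (c * o)) ∣ orderOf (c * o) := orderOf_map_dvd _ _
  have h2 : orderOf ((QuotientGroup.mk' N) (c * o)) ∣ 8 := by
    rw [e]
    exact (orderOf_map_dvd _ _).trans (hC ▸ Subgroup.orderOf_dvd_natCard C hc)
  have hcop : Nat.Coprime (orderOf (c * o)) 8 := by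
    rw [show (8 : ℕ) = 2 ^ 3 from rfl]
    exact Nat.Coprime.pow_right 3 (Nat.coprime_two_right.2 hw)
  exact (QuotientGroup.eq_one_iff _).1 (orderOf_eq_one_iff.1 (Nat.eq_one_of_dvd_coprimes hcop h1 h2))

variable {G : Type*} [Group G]

namespace Setup

variable (D : Setup G) [Finite G]

/-- The common centraliser of the second and the third involution. -/
noncomputable def Y : Subgroup G :=
  Subgroup.centralizer ({D.U} : Set G) ⊓ Subgroup.centralizer ({D.A} : Set G)

omit [Finite G] in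
theorem mem_Y {g : G} : g ∈ D.Y ↔ g * D.U = D.U * g ∧ g * D.A = D.A * g := by
  rw [Y, Subgroup.mem_inf, Subgroup.mem_centralizer_singleton_iff, Subgroup.mem_centralizer_singleton_iff]

omit [Finite G] in
theorem map_mem_Y (D : Setup G) {m : M} (hu : m * τB = τB * m) (ha : m * αA = αA * m) : D.φ m ∈ D.Y := by
  rw [D.mem_Y, U, A, ← map_mul, ← map_mul, ← map_mul, ← map_mul, hu, ha]
  exact ⟨rfl, rfl⟩

theorem Y_le : D.Y ≤ D.φ.range := by
  classical
  let VY : Subgroup D.Y := (VM.map D.φ).subgroupOf D.Y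
  have hVmem : ∀ y : D.Y, y ∈ VY ↔ ∃ i ∈ vIdx, (y : G) = D.φ (E i) := by
    intro y
    constructor
    · rintro ⟨m, hm, he⟩
      obtain ⟨i, hi, rfl⟩ := mem_VM.1 hm
      exact ⟨i, hi, he.symm⟩
    · rintro ⟨i, hi, he⟩
      exact ⟨E i, mem_VM.2 ⟨i, hi, rfl⟩, he.symm⟩
  have hgen : ∀ i ∈ vIdx, i = 0 ∨ i = 212 ∨ i = 193 ∨ i = 21 := by simp [vIdx]
  have hcen : ∀ g ∈ D.Y, ∀ i ∈ vIdx, g * D.φ (E i) = D.φ (E i) * g := by
    intro g hg i hi
    obtain ⟨hu, ha⟩ := D.mem_Y.1 hg
    rcases hgen i hi with rfl | rfl | rfl | rfl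
    · rw [E_zero, map_one, mul_one, one_mul]
    · rw [E_u]; exact hu
    · rw [E_a]; exact ha
    · rw [E_au, map_mul]
      exact (Commute.mul_right (show Commute g (D.φ αA) from ha) (show Commute g (D.φ τB) from hu)).eq
  haveI hVn : VY.Normal := ⟨fun y hy g => by
    obtain ⟨i, hi, he⟩ := (hVmem y).1 hy
    refine (hVmem _).2 ⟨i, hi, ?_⟩
    rw [Subgroup.coe_mul, Subgroup.coe_mul, Subgroup.coe_inv, he, hcen _ g.2 i hi,
      mul_inv_cancel_right]⟩
  let π := QuotientGroup.mk' VY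
  have hπ1 : ∀ y : D.Y, π y = 1 ↔ y ∈ VY := fun y => QuotientGroup.eq_one_iff y
  have hVsq : ∀ y ∈ VY, y ^ 2 = 1 := by
    intro y hy
    obtain ⟨i, hi, he⟩ := (hVmem y).1 hy
    refine Subtype.ext ?_
    rw [SubgroupClass.coe_pow, he, ← map_pow, pow_two, ← E_mi (v_facts hi).1 (v_facts hi).1,
      (v_facts hi).2.1, E_zero, map_one, OneMemClass.coe_one]
  -- the model's elements
  let Tel : D.Y := ⟨D.T, D.map_mem_Y comm_tu comm_ta⟩
  set K : Subgroup (D.Y ⧸ VY) := (D.φ.range.subgroupOf D.Y).map π with hKdef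
  suffices hK : K = ⊤ by
    intro g hg
    obtain ⟨k, hk, he⟩ := (hK ▸ Subgroup.mem_top (π ⟨g, hg⟩) : π ⟨g, hg⟩ ∈ K)
    obtain ⟨v, hv, hve⟩ : ∃ v ∈ VY, k * v = ⟨g, hg⟩ :=
      ⟨k⁻¹ * ⟨g, hg⟩, by rw [← hπ1, map_mul, map_inv, he, inv_mul_cancel], mul_inv_cancel_left _ _⟩
    obtain ⟨i, -, hvi⟩ := (hVmem v).1 hv
    have e : (k : G) * (v : G) = g := congrArg Subtype.val hve
    rw [← e]
    exact mul_mem hk ⟨E i, hvi.symm⟩
  have hzne : π Tel ≠ 1 := by
    rw [Ne, hπ1, hVmem]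
    rintro ⟨i, hi, he⟩
    have := E_inj (by norm_num) (v_facts hi).1 (E_one.trans (D.inj he))
    subst this
    exact absurd hi (by simp [vIdx])
  have hz : orderOf (π Tel) = 2 := by
    refine orderOf_eq_prime ?_ hzne
    rw [← map_pow]
    convert map_one π
    refine Subtype.ext ?_
    rw [SubgroupClass.coe_pow, OneMemClass.coe_one]
    exact D.orderOf_T ▸ pow_orderOf_eq_one D.T
  -- the centraliser of the image of the first involution
  have hsec : ∀ d, sec d < 1024 ∧ E (sec d) * τA = τA * E (sec d) ∧ E (sec d) * τB = τB * E (sec d) ∧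
      E (sec d) * αA = αA * E (sec d) := by
    intro d
    have h := sec_comm d
    simp only [Bool.and_eq_true, Nat.blt_eq] at h
    obtain ⟨⟨⟨h0, h1⟩, h2⟩, h3⟩ := h
    refine ⟨h0, ?_, ?_, ?_⟩
    · rw [← E_one, commute_iff h0 (by norm_num)]; exact Nat.eq_of_beq_eq_true h1
    · rw [← E_u, commute_iff h0 (by norm_num)]; exact Nat.eq_of_beq_eq_true h2
    · rw [← E_a, commute_iff h0 (by norm_num)]; exact Nat.eq_of_beq_eq_true h3
  let r : DihedralGroup 4 → D.Y := fun d =>
    ⟨D.φ (E (sec d)), D.map_mem_Y (hsec d).2.2.1 (hsec d).2.2.2⟩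
  have hrV : ∀ d e, ∃ v ∈ VY, r d * r e = v * r (d * e) := by
    intro d e
    obtain ⟨i, hi, he⟩ := List.any_eq_true.1 (sec_mul d e)
    have hiY : D.φ (E i) ∈ D.Y := D.map_mem_Y
      (by rw [← E_u, commute_iff (v_facts hi).1 (by norm_num)]; exact (v_facts hi).2.2.1)
      (by rw [← E_a, commute_iff (v_facts hi).1 (by norm_num)]; exact (v_facts hi).2.2.2.1)
    refine ⟨⟨D.φ (E i), hiY⟩, (hVmem _).2 ⟨i, hi, rfl⟩, Subtype.ext ?_⟩
    show D.φ (E (sec d)) * D.φ (E (sec e)) = D.φ (E i) * D.φ (E (sec (d * e)))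
    rw [← map_mul, ← map_mul, ← E_mi (hsec d).1 (hsec e).1, ← E_mi (v_facts hi).1 (hsec _).1,
      Nat.eq_of_beq_eq_true he]
  let ψ : DihedralGroup 4 →* D.Y ⧸ VY := MonoidHom.mk' (fun d => π (r d)) fun d e => by
    obtain ⟨v, hv, he⟩ := hrV d e
    have h := congrArg π he
    rw [map_mul, map_mul, (hπ1 v).2 hv, one_mul] at h
    exact h.symm
  have hψinj : Function.Injective ψ := by
    rw [injective_iff_map_eq_one]
    intro d hd
    obtain ⟨i, hi, he⟩ := (hVmem _).1 ((hπ1 (r d)).1 hd)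
    refine sec_inj d (List.any_eq_true.2 ⟨i, hi, ?_⟩)
    rw [E_inj (hsec d).1 (v_facts hi).1 (D.inj he)]
    exact Nat.beq_refl _
  have hψK : ∀ d, ψ d ∈ K := fun d => ⟨r d, ⟨E (sec d), rfl⟩, rfl⟩
  have hrange : ψ.range = Subgroup.centralizer ({π Tel} : Set (D.Y ⧸ VY)) := by
    apply le_antisymm
    · rintro _ ⟨d, rfl⟩
      rw [Subgroup.mem_centralizer_singleton_iff]
      show π (r d) * π Tel = π Tel * π (r d)
      rw [← map_mul, ← map_mul]
      congr 1
      refine Subtype.ext ?_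
      show D.φ (E (sec d)) * D.φ τA = D.φ τA * D.φ (E (sec d))
      rw [← map_mul, ← map_mul, (hsec d).2.1]
    · intro w hw
      obtain ⟨g, rfl⟩ := QuotientGroup.mk'_surjective VY w
      rw [Subgroup.mem_centralizer_singleton_iff] at hw
      have hv : Tel⁻¹ * (g * Tel * g⁻¹) ∈ VY := by
        rw [← hπ1]
        simp only [map_mul, map_inv]
        rw [show π g * π Tel = π Tel * π g from hw]
        group
      obtain ⟨i, hi, he⟩ := (hVmem _).1 hv
      have hgT : (g : G) * D.T * (g : G)⁻¹ = D.φ (τA * E i) := by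
        have he' : D.T⁻¹ * ((g : G) * D.T * (g : G)⁻¹) = D.φ (E i) := he
        rw [map_mul, ← he']
        exact (mul_inv_cancel_left _ _).symm
      rcases (v_facts hi).2.2.2.2 with rfl | htag
      · rw [E_zero, mul_one] at hgT
        have hgc : (g : G) * D.T = D.T * g := mul_inv_eq_iff_eq_mul.1 hgT
        obtain ⟨m, hm⟩ := D.cent_le (Subgroup.mem_centralizer_singleton_iff.2 hgc)
        obtain ⟨hu, ha⟩ := D.mem_Y.1 g.2
        rw [← hm, T, ← map_mul, ← map_mul] at hgc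
        rw [← hm, U, ← map_mul, ← map_mul] at hu
        rw [← hm, A, ← map_mul, ← map_mul] at ha
        obtain ⟨j, hj, rfl⟩ := cent_tua D.card_centM (D.inj hgc) (D.inj hu) (D.inj ha)
        obtain ⟨d, hd⟩ := sec_surj j hj
        obtain ⟨k, hk, hke⟩ := List.any_eq_true.1 hd
        refine ⟨d, ?_⟩
        show π (r d) = π g
        rw [← mul_inv_eq_one, ← map_inv, ← map_mul, hπ1, hVmem]
        refine ⟨k, hk, ?_⟩
        show D.φ (E (sec d)) * ((g : G))⁻¹ = D.φ (E k)
        have hkinv : (E k)⁻¹ = E k := inv_eq_of_mul_eq_one_left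
          (by rw [← E_mi (v_facts hk).1 (v_facts hk).1, (v_facts hk).2.1, E_zero])
        rw [← hm, Nat.eq_of_beq_eq_true hke, E_mi (v_facts hk).1 (hsec d).1, ← map_inv, ← map_mul,
          mul_inv_rev, mul_inv_cancel_left, hkinv]
      · obtain ⟨-, c, hc⟩ := conj_of_tagged htag
        rw [E_mi (by norm_num) (v_facts hi).1, E_one] at hc
        have h1 : IsConj (D.φ (τA * E i)) D.U :=
          D.φ.map_isConj (isConj_iff.2 ⟨c, by simpa using hc⟩)
        exact absurd ((isConj_iff.2 ⟨(g : G), hgT⟩ : IsConj D.T _).trans h1) D.not_conj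
  let e : ↥(Subgroup.centralizer ({π Tel} : Set (D.Y ⧸ VY))) ≃* DihedralGroup 4 :=
    ((MonoidHom.ofInjective hψinj).trans (MulEquiv.subgroupCongr hrange)).symm
  -- the elements of order three and five
  obtain ⟨x, y, hx, hy, hxy, hxu, hxa, hyu, hya⟩ := exists_three_five
  let xe : D.Y := ⟨D.φ x, D.map_mem_Y hxu hxa⟩
  let ye : D.Y := ⟨D.φ y, D.map_mem_Y hyu hya⟩
  have hord : ∀ (p : ℕ), p.Prime → p ≠ 2 → ∀ (m : M) (h : D.φ m ∈ D.Y), orderOf m = p →
      orderOf (π ⟨D.φ m, h⟩) = p := by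
    intro p hp hp2 m h hm
    haveI := Fact.mk hp
    have hpo : (⟨D.φ m, h⟩ : D.Y) ^ p = 1 := by
      refine Subtype.ext ?_
      rw [SubgroupClass.coe_pow, ← map_pow, ← hm, pow_orderOf_eq_one, map_one, OneMemClass.coe_one]
    refine orderOf_eq_prime (by rw [← map_pow, hpo, map_one]) fun h1 => ?_
    have hsq := hVsq _ ((hπ1 _).1 h1)
    have h2 : m ^ 2 = 1 := D.inj (by
      rw [map_pow, map_one]; exact congrArg Subtype.val hsq)
    have := (Nat.prime_dvd_prime_iff_eq hp Nat.prime_two).1 (hm ▸ orderOf_dvd_of_pow_eq_one h2)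
    exact hp2 this
  have hxK : π xe ∈ K := ⟨xe, ⟨x, rfl⟩, rfl⟩
  have hyK : π ye ∈ K := ⟨ye, ⟨y, rfl⟩, rfl⟩
  have hox : orderOf (π xe) = 3 := hord 3 Nat.prime_three (by norm_num) x _ hx
  have hoy : orderOf (π ye) = 5 := hord 5 Nat.prime_five (by norm_num) y _ hy
  have h120 : 120 ∣ Nat.card K := by
    have h8 : 8 ∣ Nat.card K := by
      have hle : ψ.range ≤ K := by rintro _ ⟨d, rfl⟩; exact hψK d
      rw [hrange] at hle
      exact DihedralCentralizer.card_centralizer e ▸ Subgroup.card_dvd_of_le hle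
    have h3 : 3 ∣ Nat.card K := hox ▸ Subgroup.orderOf_dvd_natCard K hxK
    have h5 : 5 ∣ Nat.card K := hoy ▸ Subgroup.orderOf_dvd_natCard K hyK
    omega
  have hK0 : 0 < Nat.card K := Nat.card_pos
  by_cases hidx : ∃ H : Subgroup (D.Y ⧸ VY), H.index = 2
  · obtain ⟨H, hH⟩ := hidx
    rcases DihedralCentralizer.of_index_two hz e H hH with h | hf | hf
    · exfalso
      have hC := DihedralCentralizer.card_centralizer e
      have hin : π Tel ∈ Cfsg.oddCore (D.Y ⧸ VY) := by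
        have hxy' : Tel = xe * ye := Subtype.ext (by
          show D.φ τA = D.φ x * D.φ y
          rw [← map_mul, hxy])
        rw [hxy', map_mul]
        exact mul_mem (mem_of_sup_eq_top h hC (by rw [hox]; decide))
          (mem_of_sup_eq_top h hC (by rw [hoy]; decide))
      have hd := Subgroup.orderOf_dvd_natCard _ hin
      rw [hz] at hd
      exact (Nat.not_even_iff_odd.2 Cfsg.Agent.Lib.Cores.oddCore_odd) (even_iff_two_dvd.2 hd)
    · exfalso
      obtain ⟨f⟩ := hf
      have hc : Nat.card (D.Y ⧸ VY) = 24 := by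
        rw [Nat.card_congr f.toEquiv, Nat.card_perm, Nat.card_fin]; rfl
      have := Nat.le_of_dvd (by norm_num) (hc ▸ Subgroup.card_subgroup_dvd_card K)
      have := Nat.le_of_dvd hK0 h120
      omega
    · obtain ⟨f⟩ := hf
      refine Subgroup.eq_top_of_le_card _ ?_
      rw [Nat.card_congr f.toEquiv, Nat.card_perm, Nat.card_fin]
      exact Nat.le_of_dvd hK0 h120
  · push_neg at hidx
    obtain ⟨hs, h168 | h360⟩ := DihedralCentralizer.simple_order hz e hidx
    · exfalso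
      have := h120.trans (h168 ▸ Subgroup.card_subgroup_dvd_card K)
      norm_num at this
    · by_contra hne
      have hd : Nat.card K ∣ 360 := h360 ▸ Subgroup.card_subgroup_dvd_card K
      obtain ⟨k, hk⟩ := h120
      have hmul := K.card_mul_index
      rw [h360, hk] at hmul
      have hk1 : k * K.index = 3 := by nlinarith
      have hki : K.index ≠ 1 := fun h => hne (Subgroup.index_eq_one.1 h)
      have hi3 : K.index = 3 :=
        ((Nat.dvd_prime Nat.prime_three).1 (Dvd.intro_left k hk1)).resolve_left hki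
      have hcore : K.normalCore = ⊥ :=
        (IsSimpleGroup.eq_bot_or_eq_top_of_normal _ inferInstance).resolve_right fun h =>
          hne (top_le_iff.1 (h ▸ Subgroup.normalCore_le K))
      have hinj : Function.Injective (MulAction.toPermHom (D.Y ⧸ VY) ((D.Y ⧸ VY) ⧸ K)) := by
        rw [← MonoidHom.ker_eq_bot_iff, ← Subgroup.normalCore_eq_ker, hcore]
      have hle := Nat.card_le_card_of_injective _ hinj
      have h6 : Nat.card (Equiv.Perm ((D.Y ⧸ VY) ⧸ K)) = 6 := by
        rw [Nat.card_perm, ← Subgroup.index, hi3]; rfl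
      omega

end Setup

end Cfsg.Agent.Lib.Co3End61
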